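import Cfsg.Agent.MK.T.D
import Cfsg.Agent.MK.A.Two
import Cfsg.Agent.TAB.ON.Op
import Cfsg.Agent.TAB.Eng.Fin
import Cfsg.Agent.TAB.Eng.Sep
import Cfsg.Agent.TAB.Eng.Cov
import Cfsg.Agent.H86.TI.Lift
import Cfsg.Agent.H55.PQ.Mult
import Cfsg.Agent.H139.Cusp.Adams
import Cfsg.Agent.H829.GowDesc
import Cfsg.Agent.Blocks.Basic

/-!
# MK, triple covers: the faithful characters of odd degree from the table of the quotient (helper83)

* `col_count` : the count from the column of a rational `2`-element;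
* `RowOK`, `kk_of_row` : a character with the value `± 2` is invariant under the Galois group;
* `okS`, `kk_of_chk` : the search (generator: `notes/MK/s2gen`).
-/

set_option autoImplicit false
set_option maxHeartbeats 400000

namespace Cfsg.Agent.MK.S2

open Cfsg Subgroup Cfsg.Agent.TAB.Eng Cfsg.Agent.TAB.Use Cfsg.Agent.TAB.ON Cfsg.Agent.Characters
open Cfsg.Agent.Characters.Core Cfsg.Agent.H86.TI Cfsg.Agent.H407.TI Cfsg.Agent.J3Type.CharTools
open scoped ComplexConjugate

variable {X G : Type} [Group X] [Group G] {φ : X →* G} {D : Dat}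

theorem over_iff [Finite X] {l : X → ℂ} {m : center X →* ℂˣ} (hm : ∀ z : center X, l z = m z) {χ : X → ℂ}
    (hχ : IsIrrCharacter X χ) : Over (center X) m χ ↔ ∀ z ∈ center X, χ z = l z * χ 1 := by
  refine ⟨fun h z hz => ?_, fun h z g => ?_⟩
  · have h1 := h ⟨z, hz⟩ 1
    rwa [mul_one, ← hm] at h1
  · rw [central_mul hχ (fun g => (mem_center_iff.1 z.2 g).symm), h z z.2, hm,
      mul_div_cancel_right₀ _ (isIrr_apply_one_ne_zero hχ)]

/-- **the count from a column** : `U` is a rational `2`-element; a character with the value `± 2` at `U` is fixed by the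
field automorphisms which fix the cube roots of unity -/
theorem col_count [Finite X] (h : Ext (center X) φ) {U : X} {a c : ℕ} (hU : U ^ 2 ^ a = 1) (h1 : φ U ≠ 1)
    (hr : ∀ m : ℕ, m.Coprime (orderOf U) → IsConj U (U ^ m)) (hc : Nat.card (centralizer ({φ U} : Set G)) = c)
    (h8 : c ≤ 8) {l : X → ℂ} {m : center X →* ℂˣ} (hm : ∀ z : center X, l z = m z)
    (hno : ∀ χ : X → ℂ, IsIrrCharacter X χ → Over (center X) m χ →
      (∀ σ : ℂ ≃+* ℂ, (∀ z : ℂ, z ^ 3 = 1 → σ z = z) → ∀ x, σ (χ x) = χ x) → χ U ≠ 2 ∧ χ U ≠ -2) :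
    kk ⊤ (center X) l = c := by
  classical
  have := finite_irr (G := X)
  have := Fintype.ofFinite (IrrCharacter X)
  choose v hv using fun χ : IrrCharacter X => int_of_conj (isIrr_isCharacter χ.2) U hr
  have hd : ∀ χ : IrrCharacter X, (χ : X → ℂ) 1 = (charDegree (χ : X → ℂ) : ℂ) := fun χ =>
    Blocks.Basic.irr_one_eq_charDegree χ.2
  have hp : ∀ χ : IrrCharacter X, 0 < charDegree (χ : X → ℂ) := fun χ => Nat.pos_of_ne_zero fun e =>
    isIrr_apply_one_ne_zero χ.2 (by rw [hd, e, Nat.cast_zero])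
  set S := Finset.univ.filter fun χ : IrrCharacter X => Over (center X) m (χ : X → ℂ) with hS
  have h2 : ∑ χ ∈ S, v χ ^ 2 = c := by
    have h3 := h.col_self m (h.good_of_pow (n := 2 ^ a) (fun e => absurd (Nat.prime_three.dvd_of_dvd_pow e)
      (by norm_num)) hU) hc
    simp only [hv, map_intCast, ← pow_two] at h3
    exact_mod_cast h3
  have h3 : ∑ χ ∈ S, v χ * (charDegree (χ : X → ℂ) : ℤ) = 0 := by
    have h4 := h.col_ne m (g := U) (k := 1) (by rwa [map_one, isConj_one_left])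
    simp only [hv, hd, map_natCast] at h4
    exact_mod_cast h4
  have h4 : ∀ χ ∈ S, v χ ^ 2 ≤ 1 := fun χ hχ => by
    by_contra h5
    have h6 : v χ ^ 2 ≤ c := h2 ▸ Finset.single_le_sum (f := fun χ => v χ ^ 2) (fun _ _ => sq_nonneg _) hχ
    have h7 : v χ = 2 ∨ v χ = -2 := by
      have h9 : -3 < v χ := by by_contra h; nlinarith
      have h10 : v χ < 3 := by by_contra h; nlinarith
      have h11 : v χ ≠ 0 ∧ v χ ≠ 1 ∧ v χ ≠ -1 := ⟨fun e => h5 (by rw [e]; norm_num), fun e => h5 (by rw [e]; norm_num),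
        fun e => h5 (by rw [e]; norm_num)⟩
      omega
    have ho := (Finset.mem_filter.1 hχ).2
    refine absurd (hno χ χ.2 ho fun σ hσ => ?_) (by rcases h7 with e | e <;> simp [hv, e])
    let ψ : IrrCharacter X := ⟨fun x => σ (χ.1 x), GaloisIrr.isIrr_map σ χ.2⟩
    have hψ : ψ ∈ S := Finset.mem_filter.2 ⟨Finset.mem_univ _, fun z g => by
      have h9 : ((m z : ℂˣ) : ℂ) ^ 3 = 1 := by
        rw [← Units.val_pow_eq_pow_val, ← map_pow, show z ^ 3 = 1 from Subtype.ext (h.cube z.2), map_one,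
          Units.val_one]
      exact (congrArg σ (ho z g)).trans (by rw [map_mul, hσ _ h9])⟩
    by_contra h9
    have h10 : ψ ≠ χ := fun e => h9 (congrFun (congrArg Subtype.val e))
    have h11 : v ψ = v χ := by
      have h12 : (v ψ : ℂ) = σ (v χ) := (hv ψ).symm.trans (congrArg σ (hv χ))
      rw [map_intCast] at h12
      exact_mod_cast h12
    have h12 : ∀ f : IrrCharacter X → ℤ, ∑ x ∈ S, f x = f χ + (f ψ + ∑ x ∈ (S.erase χ).erase ψ, f x) := fun f => by
      rw [Finset.add_sum_erase _ f (Finset.mem_erase.2 ⟨h10, hψ⟩), Finset.add_sum_erase _ f hχ]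
    rw [h12, h11] at h2 h3
    have h13 := Finset.sum_nonneg (s := (S.erase χ).erase ψ) (f := fun x => v x ^ 2) fun _ _ => sq_nonneg _
    have h14 : ∑ x ∈ (S.erase χ).erase ψ, v x ^ 2 = 0 := by rcases h7 with e | e <;> rw [e] at h2 <;> omega
    rw [Finset.sum_eq_zero_iff_of_nonneg fun _ _ => sq_nonneg _] at h14
    rw [Finset.sum_eq_zero fun x hx => by rw [pow_eq_zero_iff two_ne_zero |>.1 (h14 x hx), zero_mul]] at h3
    have h15 := hp χ
    have h16 := hp ψ
    rcases h7 with e | e <;> rw [e] at h3 <;> omega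
  have h5 : ∀ χ ∈ S, v χ ^ 2 = if Odd (charDegree (χ : X → ℂ)) then 1 else 0 := fun χ hχ => by
    have h6 := h4 χ hχ
    have h7 : -2 < v χ := by by_contra h; nlinarith
    have h9 : v χ < 2 := by by_contra h; nlinarith
    simp only [A.par (isIrr_isCharacter χ.2) hU (hv χ)]
    generalize v χ = w at h7 h9
    interval_cases w <;> decide
  rw [Finset.sum_congr rfl h5, Finset.sum_boole, Nat.cast_inj] at h2
  rw [kk_top, ← h2, ← Fintype.card_coe, ← Nat.card_eq_fintype_card]
  exact Nat.card_congr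
    { toFun := fun χ => ⟨⟨χ.1, χ.2.1.1⟩, by
        simp only [hS, Finset.mem_filter, Finset.mem_univ, true_and]
        exact ⟨(over_iff hm χ.2.1.1).2 χ.2.2, χ.2.1.2⟩⟩
      invFun := fun χ => ⟨χ.1.1, ⟨χ.1.2, (Finset.mem_filter.1 χ.2).2⟩,
        (over_iff hm χ.1.2).1 (Finset.mem_filter.1 (Finset.mem_filter.1 χ.2).1).2⟩
      left_inv := fun _ => rfl
      right_inv := fun _ => rfl }

/-- the values of an invariant faithful character on the types of order prime to three -/
structure RowOK (T : TD G D) (x : ℕ → ℤ) : Prop where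
  sing : ∀ t, 3 ∣ D.ord t → x t = 0
  nrm : ∑ t ∈ Finset.range D.n, (D.cnt t : ℤ) * x t ^ 2 ≤ D.N
  int : ∀ f : ℕ → ℤ, Virt T f → (∀ t < D.n, 3 ∣ D.ord t → f t = 0) →
    (D.N : ℤ) ∣ ∑ t ∈ Finset.range D.n, D.cnt t * (x t * f t)
  pw : ∀ t < D.n, ¬ 3 ∣ D.ord t → ∀ p : ℕ, p.Prime → (p : ℤ) ∣ x t - x (D.pwf t p)
  three : 3 ∣ x (T.ty 1)
  pos : 0 < x (T.ty 1)

theorem exists_row [Finite X] (h : Ext (center X) φ) (hp : _root_.commutator X = ⊤) {T : TD G D} (hm : T.Mass)
    (hr : Rat T) (hI : Inh T) {m : center X →* ℂˣ} (h1 : m ≠ 1) {χ : X → ℂ} (hχ : IsIrrCharacter X χ)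
    (ho : Over (center X) m χ) (hσ : ∀ σ : ℂ ≃+* ℂ, (∀ z : ℂ, z ^ 3 = 1 → σ z = z) → ∀ x, σ (χ x) = χ x) :
    ∃ x, RowOK T x ∧ ∀ y : X, ¬ 3 ∣ orderOf y → χ y = x (T.ty (φ y)) := by
  classical
  have : Finite G := Finite.of_surjective φ h.surj
  have := Fintype.ofFinite X
  have := Fintype.ofFinite G
  have hc := isIrr_isCharacter hχ
  have h2 : ∀ (y : X) (j : ℕ), ¬ 3 ∣ orderOf y → j.Coprime (orderOf y) → χ (y ^ j) = χ y := fun y j hy hj => by
    have h3 : Nat.Coprime 3 (orderOf y) := (Nat.Prime.coprime_iff_not_dvd Nat.prime_three).2 hy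
    obtain ⟨k, h4, h5⟩ := Nat.chineseRemainder h3 1 j
    have h6 : 3 * orderOf y ≠ 0 := mul_ne_zero (by norm_num) (orderOf_pos y).ne'
    obtain ⟨σ, h7⟩ := GaloisBasic.exists_ringEquiv_pow h6 (m := k) (Nat.Coprime.mul_right
      (by rw [Nat.Coprime, h4.gcd_eq, Nat.gcd_one_left]) (by rw [Nat.Coprime, h5.gcd_eq]; exact hj))
    rw [pow_eq_pow_iff_modEq.2 h5.symm, ← GaloisBasic.map_apply (σ : ℂ →+* ℂ) h7 hc h6
      (by rw [mul_comm, pow_mul, pow_orderOf_eq_one, one_pow])]
    refine hσ σ (fun z hz => ?_) y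
    rw [h7 z (by rw [pow_mul, hz, one_pow]), pow_eq_pow_of_modEq h4 hz, pow_one]
  have h3 : ∀ y : X, ¬ 3 ∣ orderOf y → orderOf (φ y) = orderOf y := fun y hy =>
    Nat.dvd_antisymm (orderOf_map_dvd φ y) (orderOf_dvd_of_pow_eq_one (h.eq_one_of_pow
      (h.mem_iff.2 (by rw [map_pow, pow_orderOf_eq_one])) hy (by rw [← pow_mul, mul_comm, pow_mul,
        pow_orderOf_eq_one, one_pow])))
  have h4 : ∀ y y' : X, ¬ 3 ∣ orderOf y → ¬ 3 ∣ orderOf y' → T.ty (φ y) = T.ty (φ y') → χ y = χ y' :=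
    fun y y' hy hy' e => by
      obtain ⟨j, hj⟩ := hr _ _ e
      have h5 := coprime_of_conj (by rw [T.ord, T.ord, e]) hj
      rw [h3 y hy] at h5
      rw [← h2 y j hy h5]
      exact class_eq hc (h.isConj_of hy hy' (by rw [← pow_mul, mul_comm, pow_mul, pow_orderOf_eq_one, one_pow])
        (pow_orderOf_eq_one y') (by rwa [map_pow]))
  have h5 : ∀ t, ∃ z : ℤ, (3 ∣ D.ord t → z = 0) ∧ ∀ y : X, ¬ 3 ∣ orderOf y → T.ty (φ y) = t → χ y = z := fun t => by
    by_cases h6 : ∃ y : X, ¬ 3 ∣ orderOf y ∧ T.ty (φ y) = t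
    · obtain ⟨y, hy, rfl⟩ := h6
      obtain ⟨z, hz⟩ := GaloisBasic.exists_int_of_rat hc y ((GaloisBasic.exists_rat_iff hc y).2 fun j hj =>
        h2 y j hy (hj.coprime_dvd_right (orderOf_dvd_natCard y)))
      exact ⟨z, fun e => absurd e (by rwa [← T.ord, h3 y hy]), fun y' hy' e => (h4 y' y hy' hy e).trans hz⟩
    · exact ⟨0, fun _ => rfl, fun y hy e => absurd ⟨y, hy, e⟩ h6⟩
  choose x hx0 hx using h5
  have h6 : ∀ g : G, ¬ 3 ∣ orderOf g → ∃ y : X, φ y = g ∧ ¬ 3 ∣ orderOf y := fun g hg => by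
    obtain ⟨y, h7, h8⟩ := h.exists_lift g hg (pow_orderOf_eq_one g)
    exact ⟨y, h7, fun e => hg (e.trans (orderOf_dvd_of_pow_eq_one h8))⟩
  have h7 : ∀ z : center X, ((m z : ℂˣ) : ℂ) ^ 3 = 1 := fun z => by
    rw [← Units.val_pow_eq_pow_val, ← map_pow, show z ^ 3 = 1 from Subtype.ext (h.cube z.2), map_one, Units.val_one]
  have hN : (D.N : ℂ) ≠ 0 := hm.1 ▸ card_ne_zero_complex
  have hd : x (T.ty 1) = charDegree χ := by
    have h8 := hx _ 1 (by rw [orderOf_one]; norm_num) (congrArg T.ty (map_one φ))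
    rw [Blocks.Basic.irr_one_eq_charDegree hχ] at h8
    exact_mod_cast h8.symm
  refine ⟨x, ⟨hx0, ?_, fun f hf h8 => ?_, fun t ht h8 p hp => ?_, ?_, ?_⟩, fun y hy => hx _ y hy rfl⟩
  · have h8 : ∀ y : X, (x (T.ty (φ y)) : ℝ) ^ 2 ≤ Complex.normSq (χ y) := fun y => by
      by_cases h9 : 3 ∣ orderOf (φ y)
      · rw [hx0 _ (T.ord _ ▸ h9), Int.cast_zero, zero_pow two_ne_zero]
        exact Complex.normSq_nonneg _
      · obtain ⟨y', h10, h11⟩ := h6 _ h9
        have h12 : y * y'⁻¹ ∈ center X := h.mem_iff.2 (by rw [map_mul, map_inv, h10, mul_inv_cancel])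
        have h13 := ho ⟨_, h12⟩ y'
        have h14 := congrArg Complex.normSq (h7 ⟨_, h12⟩)
        rw [map_pow, map_one, pow_eq_one_iff_of_nonneg (Complex.normSq_nonneg _) (by norm_num)] at h14
        rw [show ((⟨_, h12⟩ : center X) : X) * y' = y from inv_mul_cancel_right _ _, hx _ y' h11 (congrArg T.ty h10)]
          at h13
        rw [h13, map_mul, h14, one_mul, Complex.normSq_intCast, pow_two]
    have h9 := classInner_irr_self hχ
    rw [classInner_def, inv_mul_eq_one₀ card_ne_zero_complex] at h9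
    simp only [Complex.mul_conj] at h9
    have h10 : ∑ y, Complex.normSq (χ y) = Nat.card X := by exact_mod_cast h9.symm
    have h11 := Finset.sum_le_sum fun y (_ : y ∈ Finset.univ) => h8 y
    have h12 := H829.GowDesc.sum_comp_surj φ h.surj fun g => ((x (T.ty g) : ℂ)) ^ 2
    rw [sum_mass hm fun t => ((x t : ℂ)) ^ 2, h.ker, h.card] at h12
    simp only [nsmul_eq_mul] at h12
    have h13 : ∑ y, (x (T.ty (φ y)) : ℝ) ^ 2 = 3 * ∑ t ∈ Finset.range D.n, (D.cnt t : ℝ) * (x t : ℝ) ^ 2 := by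
      exact_mod_cast h12
    rw [h10, h13, h.card_E, hm.1, Nat.cast_mul, Nat.cast_ofNat, mul_le_mul_iff_right₀ (by norm_num)] at h11
    exact_mod_cast h11
  · obtain ⟨a, e, h9, h10⟩ := Nat.exists_eq_pow_mul_and_not_dvd (Nat.card_pos (α := X)).ne' 3 (by norm_num)
    obtain ⟨k, h11, h12⟩ := Nat.chineseRemainder ((Nat.Prime.coprime_iff_not_dvd Nat.prime_three).2 h9) 0 1
    let θ : G → ℂ := fun g => χ (Function.surjInv h.surj g ^ k)
    have h13 : ∀ y, θ (φ y) = χ (y ^ k) := fun y => by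
      have h14 : Function.surjInv h.surj (φ y) * y⁻¹ ∈ center X :=
        h.mem_iff.2 (by rw [map_mul, map_inv, Function.surjInv_eq h.surj, mul_inv_cancel])
      obtain ⟨j, rfl⟩ := (Nat.modEq_zero_iff_dvd.1 h11)
      simp only [θ]
      rw [← inv_mul_cancel_right (Function.surjInv h.surj (φ y)) y, (show Commute _ y from h.comm h14 y).mul_pow,
        pow_mul, h.cube h14, one_pow, one_mul]
    have h14 := H55.PQ.gen_descend φ h.surj (H139.Cusp.isGeneralizedCharacter_pow
      (Brauer.isGeneralizedCharacter_of_isCharacter hc) k) h13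
    have := finite_irr (G := G)
    have := Fintype.ofFinite (IrrCharacter G)
    have h15 := H447.CTab.inner_sum_mu h14 hf
    rw [classInner_def, hm.1, inv_mul_eq_iff_eq_mul₀ hN, Finset.sum_congr rfl
      (g := fun g => ((x (T.ty g) * f (T.ty g) : ℤ) : ℂ)) fun g _ => ?_,
      sum_mass hm fun t => ((x t * f t : ℤ) : ℂ)] at h15
    · simp only [nsmul_eq_mul] at h15
      exact ⟨_, by exact_mod_cast h15⟩
    · rw [map_intCast, Int.cast_mul]
      by_cases h16 : 3 ∣ orderOf g
      · rw [h8 _ (T.lt g) (T.ord g ▸ h16), Int.cast_zero, mul_zero, mul_zero]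
      · obtain ⟨y, rfl, h17⟩ := h6 g h16
        have h18 : orderOf y ∣ e := (((Nat.Prime.coprime_iff_not_dvd Nat.prime_three).2 h17).symm.pow_right
          a).dvd_of_dvd_mul_left (h10 ▸ orderOf_dvd_natCard y)
        rw [h13, pow_eq_pow_iff_modEq.2 (h12.of_dvd h18), pow_one, hx _ y h17 rfl]
  · obtain ⟨g, rfl⟩ := hI t ht
    obtain ⟨y, rfl, h9⟩ := h6 g (T.ord g ▸ h8)
    exact int_congr hc y hp (hx _ y h9 rfl) (hx _ (y ^ p) (fun e => h9 (e.trans (orderOf_pow_dvd p)))
      (by rw [map_pow, T.pow]))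
  · obtain ⟨z, hz⟩ := DFunLike.ne_iff.1 h1
    have h8 : orderOf ((m z : ℂˣ) : ℂ) = 3 :=
      haveI := Fact.mk Nat.prime_three
      orderOf_eq_prime (h7 z) fun e => hz (Units.ext e)
    rw [hd]
    exact_mod_cast h8 ▸ orderOf_dvd_of_pow_eq_one (pow_degree hp hχ le_rfl ho z)
  · rw [hd]
    exact_mod_cast Nat.pos_of_ne_zero fun e => isIrr_apply_one_ne_zero hχ (by
      rw [Blocks.Basic.irr_one_eq_charDegree hχ, e, Nat.cast_zero])

/-- **the count from the rows** : the type `u` is one class of `2`-elements with a centraliser of order `c ≤ 8` -/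
theorem kk_of_row [Finite X] (hφ : Function.Surjective φ) (hk : φ.ker = center X) (h3 : Nat.card (center X) = 3)
    (hp : _root_.commutator X = ⊤) {T : TD G D} (hm : T.Mass) (hr : Rat T) (hI : Inh T) {u a c : ℕ} (h1 : One T u)
    (ha : D.ord u = 2 ^ (a + 1)) (hc : D.cnt u * c = D.N) (h8 : c ≤ 8)
    (hno : ∀ x, RowOK T x → x u ≠ 2 ∧ x u ≠ -2) {l : X → ℂ} {m : center X →* ℂˣ} (hl : Fa (center X) l)
    (hlm : ∀ z : center X, l z = m z) : kk ⊤ (center X) l = c := by
  have : Finite G := Finite.of_surjective φ hφ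
  have h : Ext (center X) φ := ⟨hφ, hk, le_rfl, h3⟩
  obtain ⟨g, hg, -⟩ := id h1
  have h2 : ¬ 3 ∣ 2 ^ (a + 1) := fun e => absurd (Nat.prime_three.dvd_of_dvd_pow e) (by norm_num)
  have h4 : orderOf g = 2 ^ (a + 1) := by rw [T.ord, hg, ha]
  obtain ⟨U, rfl, hU⟩ := h.exists_lift g h2 (h4 ▸ pow_orderOf_eq_one g)
  have h5 : m ≠ 1 := fun e => by
    have h6 : center X = ⊥ := eq_bot_iff.2 fun z hz => hl z hz (by rw [hlm ⟨z, hz⟩, e]; rfl)
    rw [h6, card_bot] at h3
    omega
  refine col_count h hU (fun e => ?_) (fun j hj => ?_) ?_ h8 hlm fun χ hχ ho hσ => ?_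
  · rw [e, orderOf_one, pow_succ] at h4
    omega
  · refine h.isConj_of h2 h2 hU (by rw [← pow_mul, mul_comm, pow_mul, hU, one_pow]) ?_
    rw [map_pow]
    refine h1.conj hm hg ?_
    have h6 := T.pow (φ U) 1
    rw [pow_one, Dat.pwf, Nat.gcd_one_left] at h6
    rw [T.pow, Dat.pwf, ← T.ord, hj.coprime_dvd_right (orderOf_map_dvd φ U), ← h6, hg]
  · have h6 := h1.card hm hg
    have h7 : 0 < D.N := hm.1 ▸ Nat.card_pos
    exact Nat.eq_of_mul_eq_mul_left (Nat.pos_of_ne_zero fun e => by rw [e, zero_mul] at hc; omega) (h6.trans hc.symm)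
  · obtain ⟨x, hx, h6⟩ := exists_row h hp hm hr hI h5 hχ ho hσ
    rw [h6 U fun e => h2 (e.trans (orderOf_dvd_of_pow_eq_one hU)), hg]
    exact_mod_cast hno x hx

/-! ### The search -/

/-- evaluate a list of tests before passing it on -/
noncomputable def frcT {β : Type} (l : List (ℕ × List ℤ)) : (List (ℕ × List ℤ) → β) → β :=
  List.rec (fun k => k []) (fun a _ ih k => frc a.1 fun m => frcLZ a.2 fun w => ih fun l' => k ((m, w) :: l')) l

theorem frcT_eq {β : Type} (l : List (ℕ × List ℤ)) (k : List (ℕ × List ℤ) → β) : frcT l k = k l := by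
  induction l generalizing k with
  | nil => rfl
  | cons a l ih =>
    exact (frc_eq a.1 fun m => frcLZ a.2 fun w => frcT l fun l' => k ((m, w) :: l')).trans
      ((frcLZ_eq a.2 fun w => frcT l fun l' => k ((a.1, w) :: l')).trans (ih fun l' => k (a :: l')))

/-- `g` holds for the integers `v` with `c v ^ 2 ≤ B` -/
noncomputable def loop (c B : ℕ) (g : ℤ → Bool) (fuel : ℕ) : ℕ → Bool :=
  Nat.rec (fun _ => false) (fun _ ih i => cond (Nat.ble (c * (i * i)) B)
    (cond (g (Int.ofNat i)) (cond (g (Int.negSucc i)) (frc (i + 1) ih) false) false) true) fuel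

theorem loop_spec {c B : ℕ} {g : ℤ → Bool} {fuel i : ℕ} (h : loop c B g fuel i = true) {v : ℤ}
    (h1 : c * (v.natAbs * v.natAbs) ≤ B) (h2 : (i : ℤ) ≤ v ∨ v < -i) : g v = true := by
  induction fuel generalizing i with
  | zero => cases h
  | succ f ih =>
    have h3 : cond (Nat.ble (c * (i * i)) B) (cond (g (Int.ofNat i)) (cond (g (Int.negSucc i))
      (frc (i + 1) (loop c B g f)) false) false) true = true := h
    have h4 : i ≤ v.natAbs := by omega
    rw [Nat.ble_eq_true_of_le ((Nat.mul_le_mul_left c (Nat.mul_le_mul h4 h4)).trans h1), frc_eq] at h3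
    simp only [cond_true, Bool.cond_false_right, Bool.and_eq_true] at h3
    by_cases h5 : v = Int.ofNat i
    · exact h5 ▸ h3.1
    by_cases h6 : v = Int.negSucc i
    · exact h6 ▸ h3.2.1
    refine ih h3.2.2 ?_
    rw [Int.ofNat_eq_natCast] at h5
    rw [Int.negSucc_eq] at h6
    omega

/-- one step of the search -/
noncomputable def node (ts : List (ℕ × List ℤ)) (c : ℕ) (z : Bool) (f : List ℤ → ℕ → Bool) (A : List ℤ) (B : ℕ) : Bool :=
  loop c B (fun v => frc (c * (v.natAbs * v.natAbs)) fun q => cond (Nat.ble q B) (cond (z && Nat.beq q 0) true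
    (cond (allL (fun t => Nat.beq ((dotL t.2 (v :: A)).natAbs % t.1) 0) ts) (frc (B - q) (f (v :: A))) true)) true)
    100000000 0

/-- the tests which can be applied when the values at the types in `P` are known -/
noncomputable def tests (n : ℕ) (Ts : List (ℕ × List ℤ)) (t : ℕ) (P : List ℕ) : List (ℕ × List ℤ) :=
  (Ts.filter fun x => decide (nth x.2 t ≠ 0) && allL (fun s => decide (s ∈ t :: P ∨ nth x.2 s = 0)) (List.range n)).map
    fun x => (x.1, (t :: P).map (nth x.2))

/-- the search -/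
noncomputable def go (D : Dat) (Ts : List (ℕ × List ℤ)) (e : ℕ) (o : List ℕ) : List ℕ → List ℤ → ℕ → Bool :=
  List.rec (fun _ _ _ => false) (fun t _ ih P => node (tests D.n Ts t P) (D.cnt t) (Nat.beq t e) (ih (t :: P))) o

/-- the search, with the tests evaluated first -/
noncomputable def srch (D : Dat) (Ts : List (ℕ × List ℤ)) (e : ℕ) (o : List ℕ) :
    List ℕ → ((List ℤ → ℕ → Bool) → Bool) → Bool :=
  List.rec (fun _ k => k fun _ _ => false) (fun t _ ih P k => frcT (tests D.n Ts t P) fun ts => frc (D.cnt t) fun c =>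
    ih (t :: P) fun f => k (node ts c (Nat.beq t e) f)) o

theorem srch_eq (D : Dat) (Ts : List (ℕ × List ℤ)) (e : ℕ) (o P : List ℕ) (k : (List ℤ → ℕ → Bool) → Bool) :
    srch D Ts e o P k = k (go D Ts e o P) := by
  induction o generalizing P k with
  | nil => rfl
  | cons t o ih =>
    exact (frcT_eq (tests D.n Ts t P) fun ts => frc (D.cnt t) fun c => srch D Ts e o (t :: P) fun f =>
      k (node ts c (Nat.beq t e) f)).trans ((frc_eq (D.cnt t) fun c => srch D Ts e o (t :: P) fun f =>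
        k (node (tests D.n Ts t P) c (Nat.beq t e) f)).trans (ih _ _))

theorem dotL_map (f x : ℕ → ℤ) (P : List ℕ) : dotL (P.map f) (P.map x) = (P.map fun s => f s * x s).sum := by
  induction P with
  | nil => rfl
  | cons a P ih => exact (frcZ_eq _ fun h => Int.add (Int.mul (f a) (x a)) h).trans (congrArg (f a * x a + ·) ih)

theorem allL_of {β : Type} {f : β → Bool} {r : List β} (h : ∀ a ∈ r, f a = true) : allL f r = true := by
  induction r with
  | nil => rfl
  | cons b r ih =>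
    show cond (f b) (allL f r) false = true
    rw [h b List.mem_cons_self, cond_true, ih fun a ha => h a (List.mem_cons_of_mem _ ha)]

theorem go_spec {Ts : List (ℕ × List ℤ)} {e : ℕ} {x : ℕ → ℤ} (he : x e ≠ 0) (hc : D.cnt e ≠ 0)
    (hT : ∀ t ∈ Ts, (t.1 : ℤ) ∣ ∑ s ∈ Finset.range D.n, nth t.2 s * x s) {o P : List ℕ} (h1 : (o ++ P).Nodup)
    (h2 : ∀ s ∈ o ++ P, s < D.n) {B : ℕ} (h3 : (o.map fun s => D.cnt s * ((x s).natAbs * (x s).natAbs)).sum ≤ B) :
    go D Ts e o P (P.map x) B ≠ true := by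
  induction o generalizing P B with
  | nil => exact Bool.false_ne_true
  | cons t o ih =>
    intro h
    rw [List.map_cons, List.sum_cons] at h3
    have h4 := loop_spec (show node (tests D.n Ts t P) (D.cnt t) (Nat.beq t e) (go D Ts e o (t :: P)) (P.map x) B = true
      from h) (v := x t) (by omega) (by omega)
    have h5 : (o ++ t :: P).Nodup := List.nodup_middle.2 h1
    have h6 : ∀ s ∈ o ++ t :: P, s < D.n := fun s hs => h2 s (List.perm_middle.subset hs)
    have h7 : allL (fun t' => Nat.beq ((dotL t'.2 (x t :: P.map x)).natAbs % t'.1) 0) (tests D.n Ts t P) = true := by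
      refine allL_of fun y hy => ?_
      obtain ⟨w, hw, rfl⟩ := List.mem_map.1 hy
      rw [List.mem_filter, Bool.and_eq_true] at hw
      have h8 := hT w hw.1
      rw [← Finset.sum_subset (s₁ := (t :: P).toFinset) (fun s hs => Finset.mem_range.2 (h6 s
        (List.mem_append_right _ (List.mem_toFinset.1 hs)))) fun s hs hs' => by
          rw [(of_decide_eq_true (allL_spec hw.2.2 s (List.mem_range.2 (Finset.mem_range.1 hs)))).resolve_left
            fun h => hs' (List.mem_toFinset.2 h), zero_mul],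
        List.sum_toFinset _ (List.nodup_append.1 h5).2.1, ← dotL_map] at h8
      rw [Nat.beq_eq]
      exact Nat.mod_eq_zero_of_dvd (Int.natCast_dvd.1 h8)
    have h8 : (Nat.beq t e && Nat.beq (D.cnt t * ((x t).natAbs * (x t).natAbs)) 0) = false := by
      rw [Bool.and_eq_false_imp, Nat.beq_eq]
      rintro rfl
      rw [← Bool.not_eq_true, Nat.beq_eq]
      simp [he, hc]
    rw [frc_eq, Nat.ble_eq_true_of_le (by omega), cond_true, h8, cond_false, h7, cond_true, frc_eq] at h4
    exact ih h5 h6 (by omega) h4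

/-- the tests : divisibility of the degree by three, congruences of powers, integrality of the scalar products -/
noncomputable def allT (D : Dat) (e : ℕ) (ps : List ℕ) (L : List (List ℤ)) : List (ℕ × List ℤ) :=
  (3, (List.range D.n).map fun s => if s = e then 1 else 0) ::
    ((((List.range D.n).filter fun t => decide (¬ 3 ∣ D.ord t)).flatMap fun t => ps.map fun p =>
      (p, (List.range D.n).map fun s => (if s = t then 1 else 0) - if s = D.pwf t p then 1 else 0)) ++
    L.map fun f => (D.N, (List.range D.n).map fun s => D.cnt s * nth f s))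

/-- **the check** : `u` is the type of the `2`-element, `ps` a list of primes, `L` a list of combinations of the rows which
vanish at the types of order divisible by three, and `o` is the order of the search, the type `e` of `1` included -/
noncomputable def okS (D : Dat) (u e : ℕ) (ps : List ℕ) (rows : List (List ℤ)) (L : List (List (ℤ × ℕ))) (o : List ℕ) :
    Bool :=
  decide (D.ord e = 1 ∧ (∀ s < D.n, D.ord s = 1 → s = e) ∧ D.cnt e ≠ 0 ∧ (o ++ [u]).Nodup ∧ ∀ s ∈ o ++ [u], s < D.n) &&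
  allL (fun c => allL (fun t => decide (3 ∣ D.ord t → nth (comb rows c) t = 0)) (List.range D.n)) L &&
  frcT (allT D e ps (L.map (comb rows))) fun Ts => srch D Ts e o [u] fun f => frc (D.N - D.cnt u * 4) fun B =>
    f [2] B && f [-2] B

theorem no_of_chk {T : TD G D} (hI : Inh T) {rows : List (List ℤ)} (hv : ∀ r ∈ rows, Virt T (nth r)) {u e : ℕ}
    {ps : List ℕ} (hps : ∀ p ∈ ps, p.Prime) {L : List (List (ℤ × ℕ))} {o : List ℕ}
    (h : okS D u e ps rows L o = true) (x : ℕ → ℤ) (hx : RowOK T x) : x u ≠ 2 ∧ x u ≠ -2 := by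
  simp only [okS, frcT_eq, srch_eq, frc_eq, Bool.and_eq_true, decide_eq_true_eq] at h
  obtain ⟨⟨⟨-, h1, h2, h3, h4⟩, h5⟩, h6, h7⟩ := h
  obtain rfl : T.ty 1 = e := h1 _ (T.lt 1) (by rw [← T.ord, orderOf_one])
  have h8 : ∀ t ∈ allT D (T.ty 1) ps (L.map (comb rows)), (t.1 : ℤ) ∣ ∑ s ∈ Finset.range D.n, nth t.2 s * x s := by
    have h9 : ∀ f : ℕ → ℤ, ∑ s ∈ Finset.range D.n, nth ((List.range D.n).map f) s * x s =
        ∑ s ∈ Finset.range D.n, f s * x s := fun f =>
      Finset.sum_congr rfl fun s hs => by rw [nth_map_range f (Finset.mem_range.1 hs)]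
    intro t ht
    simp only [allT, List.mem_cons, List.mem_append, List.mem_flatMap, List.mem_map, List.mem_filter, List.mem_range,
      decide_eq_true_eq] at ht
    rcases ht with rfl | ⟨t, ⟨h10, h11⟩, p, hp, rfl⟩ | ⟨_, ⟨c, hc, rfl⟩, rfl⟩
    · simpa [h9, T.lt] using hx.three
    · obtain ⟨g, rfl⟩ := hI t h10
      have h12 := hx.pw _ h10 h11 p (hps p hp)
      rw [← T.pow] at h12 ⊢
      simpa [h9, sub_mul, T.lt] using h12
    · rw [h9]
      simpa only [mul_assoc, mul_comm (x _)] using hx.int _ (Virt.comb hv c) fun t ht =>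
        of_decide_eq_true (allL_spec (allL_spec h5 c hc) t (List.mem_range.2 ht))
  have h9 : x u * x u = 4 → go D (allT D (T.ty 1) ps (L.map (comb rows))) (T.ty 1) o [u] [x u] (D.N - D.cnt u * 4) ≠ true :=
    fun h10 => go_spec hx.pos.ne' h2 h8 h3 h4 (by
      have h11 : ((o ++ [u]).map fun s => D.cnt s * ((x s).natAbs * (x s).natAbs)).sum ≤ D.N := by
        rw [← List.sum_toFinset _ h3]
        refine (Finset.sum_le_sum_of_subset fun s hs => Finset.mem_range.2 (h4 s (List.mem_toFinset.1 hs))).trans ?_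
        have h12 := hx.nrm
        simp only [pow_two, ← Int.natAbs_mul_self] at h12
        exact_mod_cast h12
      rw [List.map_append, List.sum_append, List.map_singleton, List.sum_singleton, ← Int.natAbs_mul (x u), h10] at h11
      exact Nat.le_sub_of_add_le h11)
  exact ⟨fun h10 => h9 (by rw [h10]; rfl) (h10 ▸ h6), fun h10 => h9 (by rw [h10]; rfl) (h10 ▸ h7)⟩

/-- **the number of the characters of odd degree of a triple cover over a faithful central character** -/
theorem kk_of_chk [Finite X] (hφ : Function.Surjective φ) (hk : φ.ker = center X) (h3 : Nat.card (center X) = 3)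
    (hp : _root_.commutator X = ⊤) {T : TD G D} (hm : T.Mass) (hr : Rat T) (hI : Inh T) {u a c : ℕ} (h1 : One T u)
    (ha : D.ord u = 2 ^ (a + 1)) (hc : D.cnt u * c = D.N) (h8 : c ≤ 8) {rows : List (List ℤ)}
    (hv : ∀ r ∈ rows, Virt T (nth r)) {e : ℕ} {ps : List ℕ} (hps : ∀ p ∈ ps, p.Prime) {L : List (List (ℤ × ℕ))}
    {o : List ℕ} (h : okS D u e ps rows L o = true) {l : X → ℂ} {m : center X →* ℂˣ} (hl : Fa (center X) l)
    (hlm : ∀ z : center X, l z = m z) : kk ⊤ (center X) l = c :=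
  kk_of_row hφ hk h3 hp hm hr hI h1 ha hc h8 (no_of_chk hI hv hps h) hl hlm

/-- the rows of a table are generalized characters -/
theorem virt_of_tab [Finite G] {T : TD G D} {R : Rows} (h : Tab T R) (hl : ∀ r ∈ R.rel, ∀ p ∈ r.1, p.1 < R.n) :
    ∀ r ∈ R.rel.map Prod.snd, Virt T (nth r) := by
  obtain ⟨χ, hE, hR⟩ := h
  have h1 : ∀ c : List (ℕ × ℤ), (∀ p ∈ c, p.1 < R.n) →
      IsGeneralizedCharacter G fun g => (c.map fun p => (p.2 : ℂ) * χ p.1 g).sum := fun c hc => by
    induction c with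
    | nil => exact Brauer.isGeneralizedCharacter_zero
    | cons p c ih =>
      have h2 : Virt T fun _ => p.2 := Virt.const p.2
      exact Brauer.isGeneralizedCharacter_add (Brauer.isGeneralizedCharacter_mul h2
        (Brauer.isGeneralizedCharacter_of_isCharacter (isIrr_isCharacter (hE.irr _ (hc p List.mem_cons_self)))))
        (ih fun q hq => hc q (List.mem_cons_of_mem _ hq))
  intro r hr
  obtain ⟨y, hy, rfl⟩ := List.mem_map.1 hr
  have h2 := h1 _ (hl y hy)
  simp only [hR y hy, ← nth_eq] at h2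
  exact h2

end Cfsg.Agent.MK.S2
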