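import Cfsg.Agent.MK.S2.Cov
import Cfsg.Agent.TH.Spor.J3Tab

/-!
# MK, the faithful characters of odd degree of a triple cover of `J₃` (helper83)
-/

set_option autoImplicit false
set_option maxHeartbeats 400000
set_option maxRecDepth 100000

namespace Cfsg.Agent.MK.S2

open Cfsg Cfsg.Spor Subgroup Cfsg.Agent.TAB Cfsg.Agent.TAB.Eng Cfsg.Agent.TAB.Use Cfsg.Agent.TH.Spor

/-- the combinations of the rows which vanish at the elements of order divisible by three (`notes/MK/s2gen`) -/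
def latJ3 : List (List (ℤ × ℕ)) := [[(1, 0), (4, 3), (1, 6), (-1, 9), (1, 11), (4, 13)],
  [(2, 0), (-1, 1), (1, 2), (-5, 3), (1, 4), (-2, 5), (-2, 6), (4, 9), (-5, 13)],
  [(2, 0), (-1, 1), (-2, 5), (2, 9), (1, 12), (1, 13)],
  [(2, 0), (-2, 1), (-1, 2), (2, 3), (-2, 5), (4, 9), (1, 10), (2, 13)],
  [(-90, 0), (19, 1), (16, 2), (-74, 3), (-8, 4), (-10, 5), (-84, 6), (46, 9), (-24, 10), (-100, 11), (-34, 12),
    (-108, 13)],
  [(190, 0), (-180, 1), (-152, 2), (38, 3), (76, 4), (96, 5), (134, 6), (333, 7), (226, 9), (228, 10), (286, 11),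
    (324, 12), (362, 13)],
  [(-808, 0), (765, 1), (646, 2), (-162, 3), (-323, 4), (-408, 5), (-570, 6), (-1415, 7), (-960, 9), (-969, 10),
    (-1216, 11), (-1377, 12), (-1539, 13)],
  [(-1, 0), (1, 1), (1, 2), (-1, 7), (1, 8)]]

theorem okJ3 : okS J3.dat 7 0 [2, 5, 17, 19] (J3.tab.rel.map Prod.snd) latJ3 [0, 12, 13, 5, 9, 4, 1] = true := by
  decide +kernel

/-- **eight characters of odd degree over a faithful central character** -/
theorem kk_j3 {K X : Type} [Group K] [Group X] [Finite X] (h : IsoJ3 K) {φ : X →* K} (hφ : Function.Surjective φ)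
    (hk : φ.ker = center X) (h3 : Nat.card (center X) = 3) (hp : commutator X = ⊤) {l : X → ℂ} {m : center X →* ℂˣ}
    (hl : Fa (center X) l) (hlm : ∀ z : center X, l z = m z) : kk ⊤ (center X) l = 8 := by
  have : Finite K := Finite.of_surjective φ hφ
  obtain ⟨T, hm, hr, ht⟩ := J3.exists_tab h
  obtain ⟨t, D, hD, -⟩ := H417.JThreeCols.exists_coded_iso h
  have h1 : orderOf (J3Type.CharOrder.y t D 4) = 8 := J3Type.CharOrder.ord_y hD 4
  have h2 : _ = 8 := J3Type.CharOrder.cc_y hD (j := 26163) (TAB.J3.card_eq h) 4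
  generalize J3Type.CharOrder.y t D 4 = x at h1 h2
  have h4 : ∀ s < 14, J3.dat.ord s = 8 → s = 7 := by decide +kernel
  refine kk_of_chk hφ hk h3 hp hm hr (inh_of_mass hm (by decide +kernel)) (u := 7) (a := 2)
    ⟨x, h4 _ (T.lt x) ((T.ord x).symm.trans h1), by rw [h2, hm.1]; decide +kernel⟩ (by decide +kernel)
    (by decide +kernel) le_rfl (virt_of_tab ht (by decide +kernel)) (by norm_num) okJ3 hl hlm

end Cfsg.Agent.MK.S2
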