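import Cfsg.Agent.MK.S5.Alt
import Cfsg.Agent.MK.S5.Gen
import Cfsg.Agent.MK.T.B
import Cfsg.Agent.MK.S.Congr
import Cfsg.Agent.TAB.HS.Main
import Cfsg.Agent.TwoF.SpC.HSDat
import Cfsg.Agent.QTNorm.SporHS
import Cfsg.Agent.S2072

/-!
# MK, the small row of the Higman-Sims group (helper39)

The Sylow `2`-subgroups of the group and of its automorphism group have the same commutator subgroup.
-/

set_option autoImplicit false
set_option maxHeartbeats 400000
set_option maxRecDepth 100000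

namespace Cfsg.Agent.MK.S2

open Subgroup Cfsg.Agent.MK.T Cfsg.Agent.MK.S

namespace HSRow

open Cfsg.Agent.MK.S.Pc Cfsg.Agent.FS.Real Cfsg.Agent.TwoF.SpC Cfsg.Agent.TwoF.SpC.HS
open Cfsg.Agent.HN.HS100 Cfsg.Agent.HN.AutBound Cfsg.Agent.HN.AutHS
open Cfsg.Agent.SporadicA.PermTab (autG)

/-- the code of a word -/
noncomputable def cd (w : List ℕ) : ℕ := w.foldr (fun a r => D.mul (a % 1024) r) 0

noncomputable def eqv (v w : List ℕ) : Bool := Nat.beq (cd v) (cd w)

def cA : Pc.Cert where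
  gw := [[1], [8], [4], [2], [64], [32], [16], [192], [256], [512]]
  sq := [[], [], [], [], [9], [], [], [9], [], []]
  cm := [[[], [], [], [4, 8, 9], [9], [], [], [], [], []],
    [[], [], [5, 9], [4, 6, 8], [9], [], [], [8, 9], [], []],
    [[], [], [], [4, 7, 9], [], [], [7, 8], [], [9], []],
    [[], [], [], [], [], [7, 8, 9], [], [], [9], []],
    [[], [], [], [], [], [], [], [], [], []],
    [[], [], [], [], [], [], [8], [9], [], []],
    [[], [], [], [], [], [], [], [9], [], []],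
    [[], [], [], [], [], [], [], [], [], []],
    [[], [], [], [], [], [], [], [], [], []],
    [[], [], [], [], [], [], [], [], [], []]]
  dv := [([], [], []), ([], [], []), ([], [], []), ([], [], []), ([0], [3], [8, 9]), ([1], [2], [9]), ([3], [0, 1], [9]), ([2], [6], [8]), ([1], [7], [9]), ([0], [4], [])]

def cQ : Pc.Cert where
  gw := [[8], [4], [2], [64], [32], [16], [192], [256], [512]]
  sq := [[], [], [], [8], [], [], [8], [], []]
  cm := [[[], [4, 8], [3, 5, 7], [8], [], [], [7, 8], [], []],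
    [[], [], [3, 6, 8], [], [], [6, 7], [], [8], []],
    [[], [], [], [], [6, 7, 8], [], [], [8], []],
    [[], [], [], [], [], [], [], [], []],
    [[], [], [], [], [], [7], [8], [], []],
    [[], [], [], [], [], [], [8], [], []],
    [[], [], [], [], [], [], [], [], []],
    [[], [], [], [], [], [], [], [], []],
    [[], [], [], [], [], [], [], [], []]]
  dv := [([], [], []), ([], [], []), ([], [], []), ([0], [2], [5, 7]), ([0], [1], [8]), ([2], [0, 1], [6, 8]), ([1], [5], [7]), ([0], [6], [8]), ([0], [3], [])]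

/-- the old generators as words in the new ones -/
def bk : List (List ℕ) := [[0], [3], [2], [1], [6], [5], [4], [4, 7, 9], [8], [9]]

theorem chkA : ∀ i < 10, chk1 eqv 10 4 cA i = true := by decide +kernel

theorem chkQ : ∀ i < 9, chk1 eqv 9 3 cQ i = true := by decide +kernel

theorem chkB : ∀ i < 10, (inR 0 10 (bk.getD i []) && eqv [2 ^ i] (cA.ex (bk.getD i []))) = true := by
  decide +kernel

theorem chkE : ∀ i < 9, cQ.gw.getD i [] = cA.gw.getD (i + 1) [] ∧
    ∀ a ∈ cQ.gw.getD i [], Nat.testBit (a % 1024) 0 = false := by decide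

variable {x : ℕ → Equiv.Perm (Fin 100)} {S : Subgroup (Equiv.Perm (Fin 100))}

/-- the letters -/
noncomputable def y (x : ℕ → Equiv.Perm (Fin 100)) (a : ℕ) : Equiv.Perm (Fin 100) := el x 10 (a % 1024)

theorem ev_cd (J : Gen D S x) : ∀ w, ev (y x) w = el x 10 (cd w)
  | [] => (el_nil x 10).symm
  | a :: w => by
    rw [ev_cons, ev_cd J w]
    exact J.mul (Nat.mod_lt a (by decide)) _

theorem eqv_ok (J : Gen D S x) (v w : List ℕ) (h : eqv v w = true) : ev (y x) v = ev (y x) w := by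
  rw [ev_cd J, ev_cd J, Nat.eq_of_beq_eq_true h]

theorem el_even {A : Subgroup (Equiv.Perm (Fin 100))} (h : ∀ i, 0 < i → i < 10 → x i ∈ A) {a : ℕ}
    (ha : a.testBit 0 = false) : ∀ n ≤ 10, el x n a ∈ A
  | 0, _ => one_mem A
  | n + 1, hn => by
    have h1 := el_even h ha n (by omega)
    rw [el_succ]
    cases h2 : tb a n
    · exact h1
    · refine mul_mem h1 (h n (Nat.pos_of_ne_zero ?_) hn)
      rintro rfl
      rw [tb_eq, ha] at h2
      cases h2

theorem a2_both : a2 Q = 8 ∧ a2 (autG 100 adjA) = 16 := by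
  obtain ⟨x, hx, h1, h2, -⟩ := exists_gen hg hZ X_ok Q_le Z_mem Z_not
  obtain ⟨S, J⟩ := Mdl.RX.gen (D := D) hx D_ok X_rel
  have pA := pc_of_chk (eqv_ok J) (by norm_num) chkA
  have pQ := pc_of_chk (eqv_ok J) (by norm_num) chkQ
  have hA : 2 ^ 10 ≤ Nat.card (V (cA.el (y x)) 10 0) := by
    refine J.card.ge.trans (card_le_of_le (J.le_of fun i hi => ?_))
    have h3 := chkB i hi
    rw [Bool.and_eq_true] at h3
    have h4 := eqv_ok J _ _ h3.2
    rw [Cert.ev_ex, ev_cons, ev_nil, mul_one, y, Nat.mod_eq_of_lt (show 2 ^ i < 1024 from D.two_pow_lt hi),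
      el_two_pow x 10 hi] at h4
    rw [h4]
    exact inR_mem h3.1
  have hQ : 2 ^ 9 ≤ Nat.card (V (cQ.el (y x)) 9 0) := by
    refine (pA.card_eq hA (k := 1) (by norm_num)).ge.trans (card_le_of_le (V_le fun i h3 h4 => ?_))
    obtain ⟨j, rfl⟩ : ∃ j, i = j + 1 := ⟨i - 1, by omega⟩
    rw [Cert.el, ← (chkE j (by omega)).1]
    exact mem_V (g := cQ.el (y x)) (Nat.zero_le j) (by omega)
  constructor
  · refine S5.a2_of_pc Q.subtype (subtype_injective _) pQ hQ (fun i hi => ?_) (k := 86625) (by decide) card_Q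
    rw [range_subtype]
    exact ev_mem fun a ha => el_even h2 ((chkE i hi).2 a ha) 10 le_rfl
  · refine S5.a2_of_pc (autG 100 adjA).subtype (subtype_injective _) pA hA (fun i _ => ?_) (k := 86625) (by decide)
      card_autG
    rw [range_subtype]
    exact ev_mem fun a _ => el_mem _ 10 h1

theorem hZ' : center Q = ⊥ := eq_bot_iff.2 fun _ hz => mem_bot.2 (Subtype.ext
  (eq_one_of_comm fun q hq => (congrArg Subtype.val (mem_center_iff.1 hz ⟨q, hq⟩)).symm))

theorem hi : (MulAut.conj : Q →* MulAut Q).range.index = 2 := KFacts.HS.index_inn nonempty_Q.1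

theorem a2_aut : a2 (MulAut Q) = 16 := by
  obtain ⟨e, -⟩ := aut_equiv hZ' hi (inclusion Q_le) (inclusion_injective _) (by
      rw [inclusion_range]
      have h1 := card_mul_index (Q.subgroupOf (autG 100 adjA))
      rw [Nat.card_congr (subgroupOfEquivOfLe Q_le).toEquiv, card_Q, card_autG] at h1
      omega)
    fun a ha => Subtype.ext (eq_one_of_comm fun q hq => congrArg Subtype.val (ha ⟨q, hq⟩))
  rw [← a2_congr e, a2_both.2]

theorem k0_Q : k0 Q = 8 := by
  obtain ⟨e⟩ := nonempty_Q.1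
  rw [k0_congr e, k0_of_degList TAB.HS.deg]
  decide

open Cfsg.Agent.TAB in
theorem f0_Q (α : MulAut Q) : f0 α = k0 Q := by
  obtain ⟨χ, hE, hR⟩ := HS.tabQ.2
  refine f0_eq_of_all fun ψ hψ g => ?_
  obtain ⟨j, hj, rfl⟩ := hE.all ψ hψ.1
  have ho := hψ.2
  rw [hE.charDegree_eq hj, Nat.odd_iff] at ho
  have h1 : ∀ j < (Sm2.mkRows HS.A HS.B).n, (Sm2.mkRows HS.A HS.B).d j % 2 = 1 → j < HS.A.length := by
    decide +kernel
  have h2 : ([(j, 1)], Sm2.rw' HS.A HS.B j) ∈ (Sm2.mkRows HS.A HS.B).rel :=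
    List.mem_append_left _ (List.mem_map.2 ⟨j, List.mem_range.2 (h1 j hj ho), rfl⟩)
  have h3 := hR _ h2 (α g)
  rw [show HS.T.ty (α g) = HS.T.ty g from congrArg Fin.val (H344.S8.HS.cl_aut α g), ← hR _ h2 g] at h3
  simpa using h3

theorem smQ : Sm Q := by
  obtain ⟨α, -, hα⟩ := exists_out hi default
  refine sm_of_self hZ' hi (QTNorm.HSRow.selfN_hs nonempty_Q.1) (k0_Q.trans a2_both.1.symm) hα ?_
  rw [f0_Q, k0_Q, a2_aut]

end HSRow

/-- **the row of `HS`** -/
theorem hs : SmS Spor.HS := fun _ => HN.AutHS.nonempty_Q.1.elim fun e => sm_congr e.symm HSRow.smQ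

end Cfsg.Agent.MK.S2
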