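import Cfsg.Agent.MK.T.D
import Cfsg.Agent.MK.S.Congr
import Cfsg.Agent.GAL.Spor.Janko
import Cfsg.Agent.S2041
import Cfsg.Agent.S2067
import Cfsg.Agent.H133.FibPce
import Cfsg.Agent.H95.StemCover

/-!
# MK, `3.J₃`: the automorphisms which fix the centre are inner; the Sylow normaliser of `J₃` (helper39)

* `J3I.inn` : an automorphism of a perfect triple cover of `J₃` which fixes the centre is inner;
* `J3I.cyc_of_sheet`, `J3I.cyc_of_model`, `J3I.cycN` : `N(T)/T` is cyclic.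
-/

set_option autoImplicit false

namespace Cfsg.Agent.MK.S2.J3I

open Cfsg Subgroup Cfsg.Spor Cfsg.Agent.MK.T Cfsg.Agent.MK.S Cfsg.Agent.GAL.Spor Cfsg.Agent.ODD.Alt
open Cfsg.Agent.OddHalf.D8.JTwo.Sheet

section cyc

variable {S L : Type} [Group S] [Finite S] [Group L] [Finite L]

/-- `CycN` at every Sylow subgroup -/
theorem cyc_sylow (h : CycN S) (P : Sylow 2 S) : ∃ w ∈ normalizer ((P : Subgroup S) : Set S),
    ∀ g ∈ normalizer ((P : Subgroup S) : Set S), ∃ q ∈ (P : Subgroup S), ∃ k : ℕ, g = q * w ^ k := by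
  have : Fact (Nat.Prime 2) := ⟨Nat.prime_two⟩
  obtain ⟨T, w, hw, hT⟩ := h
  obtain ⟨c, rfl⟩ := MulAction.exists_smul_eq S T P
  refine ⟨c * w * c⁻¹, mem_normalizer_fintype fun x hx => ?_, fun g hg => ?_⟩
  · refine (mem_smul_iff c T _).2 ?_
    rw [show c⁻¹ * (c * w * c⁻¹ * x * (c * w * c⁻¹)⁻¹) * c = w * (c⁻¹ * x * c) * w⁻¹ by group]
    exact (mem_normalizer_iff.1 hw _).1 ((mem_smul_iff c T x).1 hx)
  · obtain ⟨q, hq, k, hk⟩ := hT (c⁻¹ * g * c) (mem_normalizer_fintype fun x hx => by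
      have h2 := (mem_normalizer_iff.1 hg (c * x * c⁻¹)).1 (by
        rw [mem_smul_iff, show c⁻¹ * (c * x * c⁻¹) * c = x by group]
        exact hx)
      rw [mem_smul_iff] at h2
      rw [show c⁻¹ * g * c * x * (c⁻¹ * g * c)⁻¹ = c⁻¹ * (g * (c * x * c⁻¹) * g⁻¹) * c by group]
      exact h2)
    refine ⟨c * q * c⁻¹, ?_, k, ?_⟩
    · rw [mem_smul_iff, show c⁻¹ * (c * q * c⁻¹) * c = q by group]
      exact hq
    · rw [conj_pow, show g = c * (c⁻¹ * g * c) * c⁻¹ by group, hk]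
      group

/-- reduction to `C(z)/R` -/
theorem cyc_of_sheet {z : S} {P R : Subgroup S} (h : SheetX z P R) (π : centralizer ({z} : Set S) →* L)
    (hs : Function.Surjective π) (hk : ∀ x, π x = 1 → (x : S) ∈ R) (hc : CycN L) : CycN S := by
  obtain ⟨Q, hz, h1, hu⟩ := h.syl
  have hQ : (Q : Subgroup S) ≤ centralizer ({z} : Set S) := fun x hx => mem_centralizer_singleton_iff.2 (h1 x hx)
  obtain ⟨w, hw, hT⟩ := cyc_sylow hc (im hQ π hs)
  obtain ⟨w, rfl⟩ := hs w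
  have key : ∀ x : centralizer ({z} : Set S), π x ∈ (im hQ π hs : Subgroup L) → (x : S) ∈ (Q : Subgroup S) := by
    intro x hx
    obtain ⟨y, hy, e⟩ := mem_im.1 hx
    have h2 := h.R_le_sylow Q h1 (hk (y⁻¹ * x) (by rw [map_mul, map_inv, e, inv_mul_cancel]))
    exact (Subgroup.mul_mem_cancel_left _ (inv_mem hy)).1 h2
  refine ⟨Q, w, mem_normalizer_fintype fun q hq => key (w * ⟨q, hQ hq⟩ * w⁻¹) ?_, fun g hg => ?_⟩
  · rw [map_mul, map_mul, map_inv]
    exact (mem_normalizer_iff.1 hw _).1 (mem_im.2 ⟨_, hq, rfl⟩)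
  have hg' : g ∈ centralizer ({z} : Set S) := by
    have h2 : MulAut.conj g z = z := fix_z h.z1 hz h1 hu fun q hq => (mem_normalizer_iff.1 hg q).1 hq
    rw [mem_centralizer_singleton_iff]
    exact mul_inv_eq_iff_eq_mul.1 h2
  obtain ⟨q, hq, k, e⟩ := hT (π ⟨g, hg'⟩) (mem_normalizer_fintype fun l hl => by
    obtain ⟨x, hx, rfl⟩ := mem_im.1 hl
    exact mem_im.2 ⟨⟨g, hg'⟩ * x * ⟨g, hg'⟩⁻¹, (mem_normalizer_iff.1 hg x).1 hx, by rw [map_mul, map_mul, map_inv]⟩)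
  refine ⟨g * ((w : S) ^ k)⁻¹, key (⟨g, hg'⟩ * (w ^ k)⁻¹) ?_, k, by rw [inv_mul_cancel_right]⟩
  rw [map_mul, map_inv, map_pow, e, mul_inv_cancel_right]
  exact hq

theorem cyc5 : CycN A5 := by
  have h1 : ∀ g : A5, g * t5 = t5 * g → c5 * g * c5⁻¹ * t5 = t5 * (c5 * g * c5⁻¹) := by decide +kernel
  have h2 : ∀ g : A5, g * t5 * g⁻¹ * t5 = t5 * (g * t5 * g⁻¹) →
      ∃ k : Fin 3, g * (c5 ^ (k : ℕ))⁻¹ * t5 = t5 * (g * (c5 ^ (k : ℕ))⁻¹) := by decide +kernel
  refine ⟨Q5, c5, mem_normalizer_fintype fun g hg => mem_Q5.2 (h1 g (mem_Q5.1 hg)), fun g hg => ?_⟩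
  obtain ⟨k, hk⟩ := h2 g (mem_Q5.1 ((mem_normalizer_iff.1 hg _).1 (mem_Q5.2 rfl)))
  exact ⟨_, mem_Q5.2 hk, k, by rw [inv_mul_cancel_right]⟩

open Cfsg.Agent.J2Type.Model in
/-- `C(z) = 2^{1+4}_- : A₅` -/
theorem cyc_of_model {z : S} {Q : Subgroup (centralizer ({z} : Set S))}
    {z' : centralizer ({z} : Set S)} {v : Fin 5 → centralizer ({z} : Set S)} {ρ : centralizer ({z} : Set S) →* SP}
    (M : IsModel Q z' v ρ) (h : SheetX z (centralizer ({z} : Set S)) (Q.map (centralizer ({z} : Set S)).subtype)) :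
    CycN S :=
  cyc_of_sheet h (H72.ModelFacts.proj M) (H72.ModelFacts.proj_surj M) (fun x hx => by
    rw [← MonoidHom.mem_ker, H72.ModelFacts.proj_ker] at hx
    exact ⟨x, hx, rfl⟩) cyc5

theorem cycN_iso (h : IsoJ3 S) : CycN S := by
  obtain ⟨z, Q, v, ρ, M, -, -, hE⟩ := OddHalf.D8.RowJ3.sheet' S h
  exact cyc_of_model M (of_sheetE hE)

end cyc

variable {F : Type} [Field F] [Fintype F] {ω : F}

theorem finite_J3 (hF : Fintype.card F = 4) (hω : ω ^ 2 + ω + 1 = 0) : Finite (J3 F ω) :=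
  Nat.finite_of_card_ne_zero (by rw [J3.Simple.card_J3 hF (J3.Core.good_of_card hF hω)]; norm_num)

/-- **the Sylow normaliser of `J₃` is cyclic modulo the Sylow subgroup** -/
theorem cycN (hF : Fintype.card F = 4) (hω : ω ^ 2 + ω + 1 = 0) : CycN (J3 F ω) :=
  have := finite_J3 hF hω
  cycN_iso (H55.JThree.isoJ3 hF hω)

open Cfsg.Agent.J3.Core Cfsg.Agent.J3.Elts Cfsg.Agent.J3.Nineteen Cfsg.Agent.H55.JThree in
/-- the semilinear automorphism moves the centre -/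
theorem phi_moves (hF : Fintype.card F = 4) (H : Good ω) : ∃ s ∈ center (threeJ3 F ω), phi hF H s ≠ s := by
  obtain ⟨G⟩ := exists_gens hF H
  obtain ⟨s, hs⟩ := exists_scalar H G
  refine ⟨s, by rw [center_eq hF H hs]; exact mem_zpowers s, fun h1 => ?_⟩
  have h2 := congrArg (fun t => mat ω t (0 : F9) (0 : F9)) h1
  simp only [mat_phi, phiM_apply, hs] at h2
  have h3 : cj 0 = 0 := (cj_eq_zero 0).2 rfl
  rw [h3, Matrix.smul_apply, Matrix.one_apply_eq, smul_eq_mul, mul_one] at h2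
  have h4 : ω * (ω - 1) = 0 := by linear_combination h2
  rcases mul_eq_zero.1 h4 with h5 | h5
  · exact H.ne_zero h5
  · exact H.ne_one (sub_eq_zero.1 h5)

open Cfsg.Agent.H48.J3Three Cfsg.Agent.H55 Cfsg.Agent.H55.JThree in
/-- **the automorphisms of a perfect triple cover of `J₃` which fix the centre are inner** -/
theorem inn (hF : Fintype.card F = 4) (hω : ω ^ 2 + ω + 1 = 0) {X : Type} [Group X] [Finite X] (φ : X →* J3 F ω)
    (h1 : Function.Surjective φ) (h2 : φ.ker = center X) (h3 : Nat.card (center X) = 3) (h4 : commutator X = ⊤) :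
    ∀ α : MulAut X, (∀ z ∈ center X, α z = z) → ∃ x, α = MulAut.conj x := by
  have H := J3.Core.good_of_card hF hω
  have := finite_J3 hF hω
  have : Finite (threeJ3 F ω) := Nat.finite_of_card_ne_zero (by rw [J3.Order.card_threeJ3 hF H]; norm_num)
  have h6 : Nat.card (pr F ω).ker = 3 := by rw [ker_pr, J3.Nineteen.card_center hF H]
  rcases H133.FibPce.dichotomy (π := φ) (ρ := pr F ω) ⟨h1, h2.le, h4⟩ (pce hF H) (by rw [h6]; exact Nat.prime_three)
    (by rw [h2, h3, h6]) with h7 | ⟨e, he⟩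
  · have h8 := H95.StemCover.card_ker_dvd_cyclic (S2041.result hF ω hω) h7 _ (H133.FibPce.pj_surj h1 pr_surjective)
      (H133.FibPce.pj_ker h2.le ker_pr.le)
    rw [Nat.card_congr (H133.FibPce.kerFib φ (pr F ω)).toEquiv, Nat.card_prod, h2, h3, h6] at h8
    exact absurd h8 (by decide)
  let δ : MulAut X := (e.trans (phi hF H)).trans e.symm
  have h7 : ∀ x, φ (δ x) = OutGen.centerQuot (phi hF H) (φ x) := fun x => by
    rw [← he, ← he]
    exact congrArg (pr F ω) (e.apply_symm_apply _)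
  have hi : (MulAut.conj : J3 F ω →* MulAut (J3 F ω)).range.index = 2 := by
    rw [← OutGen.card_out_eq_index, S2067.result hF ω hω]
  obtain ⟨s, hs, hn⟩ := phi_moves hF H
  refine inn_of_aut φ h1 h2 h4 (out_cases hi fun ⟨g, hg⟩ =>
    OutGen.centerQuot_not_inner (hom_center hF H) (phi_not_inner hF H) g hg.symm) δ h7 fun h10 => hn ?_
  have h11 : phi hF H (e (e.symm s)) = s :=
    e.symm.injective (h10 _ ((mem_center_congr e _).1 (by rw [e.apply_symm_apply]; exact hs)))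
  rwa [e.apply_symm_apply] at h11

end Cfsg.Agent.MK.S2.J3I
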