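import Cfsg.Agent.MK.S2.J23
import Cfsg.Agent.MK.S2.J3Cov
import Cfsg.Agent.MK.S2.J3Inn

/-!
# MK, the small row of the triple cover of `J₃` (helper83)
-/

set_option autoImplicit false

namespace Cfsg.Agent.MK.S2

open Cfsg Cfsg.Spor Subgroup Cfsg.Agent.MK.T Cfsg.Agent.MK.S

/-- **the row of `3.J₃`** -/
theorem j33 (F : Type) [Field F] [Fintype F] (ω : F) (hF : Fintype.card F = 4) (hω : ω ^ 2 + ω + 1 = 0) :
    SmC (J3 F ω) := fun X _ _ φ hφ hk h3 hp ih => by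
  have h : IsoJ3 (J3 F ω) := ⟨F, _, _, ω, hF, hω, ⟨MulEquiv.refl _⟩⟩
  have := H306.SD.J.finite_of h
  exact sm_of_kk φ hφ hk (by rw [h3]; decide) (J3I.inn hF hω φ hφ hk h3 hp) (J3I.cycN hF hω) (m0_j3 h ih)
    fun l m hl hm => (kk_j3 h hφ hk h3 hp hl hm).trans (S5.J3Row.k0_J3 h).symm

end Cfsg.Agent.MK.S2
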