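import Cfsg.Agent.MK.S2.Cov

/-!
# MK, triple covers: the last test (helper83)

A row of full norm comes from a character which vanishes over the elements of order divisible by three; then the square
of the row is a generalized character of the quotient.
-/

set_option autoImplicit false
set_option maxHeartbeats 400000

namespace Cfsg.Agent.MK.S2

open Cfsg Subgroup Cfsg.Agent.TAB.Eng Cfsg.Agent.TAB.Use Cfsg.Agent.TAB.ON Cfsg.Agent.Characters
open Cfsg.Agent.Characters.Core Cfsg.Agent.H86.TI Cfsg.Agent.H407.TI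
open scoped ComplexConjugate

variable {X G : Type} [Group X] [Group G] {φ : X →* G} {D : Dat}

theorem sq_virt [Finite X] (h : Ext (center X) φ) {T : TD G D} (hm : T.Mass) {m : center X →* ℂˣ} {χ : X → ℂ}
    (hχ : IsIrrCharacter X χ) (ho : Over (center X) m χ) {x : ℕ → ℤ} (hx0 : ∀ t, 3 ∣ D.ord t → x t = 0)
    (hx : ∀ y : X, ¬ 3 ∣ orderOf y → χ y = x (T.ty (φ y)))
    (hn : ∑ t ∈ Finset.range D.n, (D.cnt t : ℤ) * x t ^ 2 = D.N) : Virt T fun t => x t ^ 2 := by
  classical
  have : Finite G := Finite.of_surjective φ h.surj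
  have := Fintype.ofFinite X
  have := Fintype.ofFinite G
  have h8 : ∀ y : X, (x (T.ty (φ y)) : ℝ) ^ 2 ≤ Complex.normSq (χ y) := fun y => by
    by_cases h9 : 3 ∣ orderOf (φ y)
    · rw [hx0 _ (T.ord _ ▸ h9), Int.cast_zero, zero_pow two_ne_zero]
      exact Complex.normSq_nonneg _
    · obtain ⟨y', h10, h11⟩ := h.exists_lift _ h9 (pow_orderOf_eq_one (φ y))
      have h12 : y * y'⁻¹ ∈ center X := h.mem_iff.2 (by rw [map_mul, map_inv, h10, mul_inv_cancel])
      have h13 := ho ⟨_, h12⟩ y'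
      have h7 : ((m ⟨_, h12⟩ : ℂˣ) : ℂ) ^ 3 = 1 := by
        rw [← Units.val_pow_eq_pow_val, ← map_pow, show (⟨_, h12⟩ : center X) ^ 3 = 1 from Subtype.ext (h.cube h12),
          map_one, Units.val_one]
      have h14 := congrArg Complex.normSq h7
      rw [map_pow, map_one, pow_eq_one_iff_of_nonneg (Complex.normSq_nonneg _) (by norm_num)] at h14
      rw [show ((⟨_, h12⟩ : center X) : X) * y' = y from inv_mul_cancel_right _ _,
        hx y' fun e => h9 (e.trans (orderOf_dvd_of_pow_eq_one h11)), h10] at h13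
      rw [h13, map_mul, h14, one_mul, Complex.normSq_intCast, pow_two]
  have hc := isIrr_isCharacter hχ
  have h9 := classInner_irr_self hχ
  rw [classInner_def, inv_mul_eq_one₀ card_ne_zero_complex] at h9
  simp only [Complex.mul_conj] at h9
  have h10 : ∑ y, Complex.normSq (χ y) = Nat.card X := by exact_mod_cast h9.symm
  have h12 := H829.GowDesc.sum_comp_surj φ h.surj fun g => ((x (T.ty g) : ℂ)) ^ 2
  rw [sum_mass hm fun t => ((x t : ℂ)) ^ 2, h.ker, h.card] at h12
  simp only [nsmul_eq_mul] at h12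
  have h13 : ∑ y, x (T.ty (φ y)) ^ 2 = 3 * ∑ t ∈ Finset.range D.n, (D.cnt t : ℤ) * x t ^ 2 := by exact_mod_cast h12
  have h14 : ∑ y, (x (T.ty (φ y)) : ℝ) ^ 2 = ∑ y, Complex.normSq (χ y) := by
    rw [h10, h.card_E, hm.1]
    rw [hn] at h13
    exact_mod_cast h13
  have h15 := (Finset.sum_eq_sum_iff_of_le fun y (_ : y ∈ Finset.univ) => h8 y).1 h14
  refine H55.PQ.gen_descend φ h.surj (Brauer.isGeneralizedCharacter_mul (Brauer.isGeneralizedCharacter_of_isCharacter hc)
    (Brauer.isGeneralizedCharacter_of_isCharacter (isCharacter_conj hc))) fun y => ?_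
  rw [Pi.mul_apply, Complex.mul_conj, ← h15 y (Finset.mem_univ y)]
  norm_cast

theorem dvd_of_virt [Finite G] {T : TD G D} (hm : T.Mass) {f g : ℕ → ℤ} (hf : Virt T f) (hg : Virt T g) :
    (D.N : ℤ) ∣ ∑ t ∈ Finset.range D.n, D.cnt t * (f t * g t) := by
  have := Fintype.ofFinite G
  have := finite_irr (G := G)
  have := Fintype.ofFinite (IrrCharacter G)
  have h15 := H447.CTab.inner_sum_mu hf hg
  rw [classInner_def, hm.1, inv_mul_eq_iff_eq_mul₀ (hm.1 ▸ card_ne_zero_complex), Finset.sum_congr rfl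
    (g := fun y => ((f (T.ty y) * g (T.ty y) : ℤ) : ℂ)) fun y _ => by rw [map_intCast, Int.cast_mul],
    sum_mass hm fun t => ((f t * g t : ℤ) : ℂ)] at h15
  simp only [nsmul_eq_mul] at h15
  exact ⟨_, by exact_mod_cast h15⟩

/-- **the count from the rows**, with the last test -/
theorem kk_of_row2 [Finite X] (hφ : Function.Surjective φ) (hk : φ.ker = center X) (h3 : Nat.card (center X) = 3)
    (hp : _root_.commutator X = ⊤) {T : TD G D} (hm : T.Mass) (hr : Rat T) (hI : Inh T) {u a c : ℕ} (h1 : One T u)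
    (ha : D.ord u = 2 ^ (a + 1)) (hc : D.cnt u * c = D.N) (h8 : c ≤ 8)
    (hno : ∀ x, RowOK T x → (∑ t ∈ Finset.range D.n, (D.cnt t : ℤ) * x t ^ 2 = D.N → Virt T fun t => x t ^ 2) →
      x u ≠ 2 ∧ x u ≠ -2) {l : X → ℂ} {m : center X →* ℂˣ} (hl : Fa (center X) l)
    (hlm : ∀ z : center X, l z = m z) : kk ⊤ (center X) l = c := by
  have : Finite G := Finite.of_surjective φ hφ
  have h : Ext (center X) φ := ⟨hφ, hk, le_rfl, h3⟩
  obtain ⟨g, hg, -⟩ := id h1
  have h2 : ¬ 3 ∣ 2 ^ (a + 1) := fun e => absurd (Nat.prime_three.dvd_of_dvd_pow e) (by norm_num)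
  have h4 : orderOf g = 2 ^ (a + 1) := by rw [T.ord, hg, ha]
  obtain ⟨U, rfl, hU⟩ := h.exists_lift g h2 (h4 ▸ pow_orderOf_eq_one g)
  have h5 : m ≠ 1 := fun e => by
    have h6 : center X = ⊥ := eq_bot_iff.2 fun z hz => hl z hz (by rw [hlm ⟨z, hz⟩, e]; rfl)
    rw [h6, card_bot] at h3
    omega
  refine col_count h hU (fun e => ?_) (fun j hj => ?_) ?_ h8 hlm fun χ hχ ho hσ => ?_
  · rw [e, orderOf_one, pow_succ] at h4
    omega
  · refine h.isConj_of h2 h2 hU (by rw [← pow_mul, mul_comm, pow_mul, hU, one_pow]) ?_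
    rw [map_pow]
    refine h1.conj hm hg ?_
    have h6 := T.pow (φ U) 1
    rw [pow_one, Dat.pwf, Nat.gcd_one_left] at h6
    rw [T.pow, Dat.pwf, ← T.ord, hj.coprime_dvd_right (orderOf_map_dvd φ U), ← h6, hg]
  · have h6 := h1.card hm hg
    have h7 : 0 < D.N := hm.1 ▸ Nat.card_pos
    exact Nat.eq_of_mul_eq_mul_left (Nat.pos_of_ne_zero fun e => by rw [e, zero_mul] at hc; omega) (h6.trans hc.symm)
  · obtain ⟨x, hx, h6⟩ := exists_row h hp hm hr hI h5 hχ ho hσ
    rw [h6 U fun e => h2 (e.trans (orderOf_dvd_of_pow_eq_one hU)), hg]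
    exact_mod_cast hno x hx (sq_virt h hm hχ ho hx.sing h6)

/-- the search with the test `lf` at the leaves -/
noncomputable def go2 (D : Dat) (Ts : List (ℕ × List ℤ)) (e : ℕ) (lf : List ℤ → Bool) (o : List ℕ) :
    List ℕ → List ℤ → ℕ → Bool :=
  List.rec (fun _ A _ => lf A) (fun t _ ih P => node (tests D.n Ts t P) (D.cnt t) (Nat.beq t e) (ih (t :: P))) o

/-- the same with the tests evaluated first -/
noncomputable def srch2 (D : Dat) (Ts : List (ℕ × List ℤ)) (e : ℕ) (lf : List ℤ → Bool) (o : List ℕ) :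
    List ℕ → ((List ℤ → ℕ → Bool) → Bool) → Bool :=
  List.rec (fun _ k => k fun A _ => lf A) (fun t _ ih P k => frcT (tests D.n Ts t P) fun ts => frc (D.cnt t) fun c =>
    ih (t :: P) fun f => k (node ts c (Nat.beq t e) f)) o

theorem srch2_eq (D : Dat) (Ts : List (ℕ × List ℤ)) (e : ℕ) (lf : List ℤ → Bool) (o P : List ℕ)
    (k : (List ℤ → ℕ → Bool) → Bool) : srch2 D Ts e lf o P k = k (go2 D Ts e lf o P) := by
  induction o generalizing P k with
  | nil => rfl
  | cons t o ih =>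
    exact (frcT_eq (tests D.n Ts t P) fun ts => frc (D.cnt t) fun c => srch2 D Ts e lf o (t :: P) fun f =>
      k (node ts c (Nat.beq t e) f)).trans ((frc_eq (D.cnt t) fun c => srch2 D Ts e lf o (t :: P) fun f =>
        k (node (tests D.n Ts t P) c (Nat.beq t e) f)).trans (ih _ _))

theorem sum_supp {f : ℕ → ℤ} {P : List ℕ} (h1 : P.Nodup) (h2 : ∀ s ∈ P, s < D.n) (h3 : ∀ s < D.n, s ∉ P → f s = 0) :
    ∑ s ∈ Finset.range D.n, f s = (P.map f).sum := by
  rw [← Finset.sum_subset (s₁ := P.toFinset) (fun s hs => Finset.mem_range.2 (h2 s (List.mem_toFinset.1 hs)))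
    fun s hs hs' => h3 s (Finset.mem_range.1 hs) fun h => hs' (List.mem_toFinset.2 h), List.sum_toFinset _ h1]

theorem go2_spec {Ts : List (ℕ × List ℤ)} {e : ℕ} {lf : List ℤ → Bool} {x : ℕ → ℤ} (he : x e ≠ 0) (hc : D.cnt e ≠ 0)
    (hT : ∀ t ∈ Ts, (t.1 : ℤ) ∣ ∑ s ∈ Finset.range D.n, nth t.2 s * x s) {o P : List ℕ} (h1 : (o ++ P).Nodup)
    (h2 : ∀ s ∈ o ++ P, s < D.n) {B : ℕ} (h3 : (o.map fun s => D.cnt s * ((x s).natAbs * (x s).natAbs)).sum ≤ B)
    (h : go2 D Ts e lf o P (P.map x) B = true) : lf ((o.reverse ++ P).map x) = true := by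
  induction o generalizing P B with
  | nil => exact h
  | cons t o ih =>
    rw [List.map_cons, List.sum_cons] at h3
    have h4 := loop_spec (show node (tests D.n Ts t P) (D.cnt t) (Nat.beq t e) (go2 D Ts e lf o (t :: P)) (P.map x) B =
      true from h) (v := x t) (by omega) (by omega)
    have h5 : (o ++ t :: P).Nodup := List.nodup_middle.2 h1
    have h6 : ∀ s ∈ o ++ t :: P, s < D.n := fun s hs => h2 s (List.perm_middle.subset hs)
    have h7 : allL (fun t' => Nat.beq ((dotL t'.2 (x t :: P.map x)).natAbs % t'.1) 0) (tests D.n Ts t P) = true := by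
      refine allL_of fun y hy => ?_
      obtain ⟨w, hw, rfl⟩ := List.mem_map.1 hy
      rw [List.mem_filter, Bool.and_eq_true] at hw
      have h8 := hT w hw.1
      rw [sum_supp (List.nodup_append.1 h5).2.1 (fun s hs => h6 s (List.mem_append_right _ hs)) fun s hs hs' => by
        rw [(of_decide_eq_true (allL_spec hw.2.2 s (List.mem_range.2 hs))).resolve_left hs', zero_mul], ← dotL_map] at h8
      rw [Nat.beq_eq]
      exact Nat.mod_eq_zero_of_dvd (Int.natCast_dvd.1 h8)
    have h8 : (Nat.beq t e && Nat.beq (D.cnt t * ((x t).natAbs * (x t).natAbs)) 0) = false := by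
      rw [Bool.and_eq_false_imp, Nat.beq_eq]
      rintro rfl
      rw [← Bool.not_eq_true, Nat.beq_eq]
      simp [he, hc]
    rw [frc_eq, Nat.ble_eq_true_of_le (by omega), cond_true, h8, cond_false, h7, cond_true, frc_eq] at h4
    rw [List.reverse_cons, List.append_assoc]
    exact ih h5 h6 (by omega) h4

/-- the test at the leaves : the norm is full and the square has a scalar product which is not an integer -/
noncomputable def leaf (D : Dat) (rows : List (List ℤ)) (P : List ℕ) (A : List ℤ) : Bool :=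
  decide (dotL (P.map fun s => (D.cnt s : ℤ)) (A.map fun v => v * v) = D.N) &&
    !allL (fun r => decide ((D.N : ℤ) ∣ dotL (P.map fun s => D.cnt s * nth r s) (A.map fun v => v * v))) rows

/-- **the check** : as `okS`, but `u :: o` must contain all the types of order prime to three -/
noncomputable def okS2 (D : Dat) (u e : ℕ) (ps : List ℕ) (rows : List (List ℤ)) (L : List (List (ℤ × ℕ)))
    (o : List ℕ) : Bool :=
  decide ((∀ s < D.n, D.ord s = 1 → s = e) ∧ D.cnt e ≠ 0 ∧ (o ++ [u]).Nodup ∧ (∀ s ∈ o ++ [u], s < D.n) ∧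
    ∀ s < D.n, s ∉ o ++ [u] → 3 ∣ D.ord s) &&
  allL (fun c => allL (fun t => decide (3 ∣ D.ord t → nth (comb rows c) t = 0)) (List.range D.n)) L &&
  frcT (allT D e ps (L.map (comb rows))) fun Ts => srch2 D Ts e (leaf D rows (o.reverse ++ [u])) o [u] fun f =>
    frc (D.N - D.cnt u * 4) fun B => f [2] B && f [-2] B

theorem tests_ok {T : TD G D} (hI : Inh T) {rows : List (List ℤ)} (hv : ∀ r ∈ rows, Virt T (nth r)) {ps : List ℕ}
    (hps : ∀ p ∈ ps, p.Prime) {L : List (List (ℤ × ℕ))}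
    (h5 : allL (fun c => allL (fun t => decide (3 ∣ D.ord t → nth (comb rows c) t = 0)) (List.range D.n)) L = true)
    {x : ℕ → ℤ} (hx : RowOK T x) : ∀ t ∈ allT D (T.ty 1) ps (L.map (comb rows)),
      (t.1 : ℤ) ∣ ∑ s ∈ Finset.range D.n, nth t.2 s * x s := by
  have h9 : ∀ f : ℕ → ℤ, ∑ s ∈ Finset.range D.n, nth ((List.range D.n).map f) s * x s =
      ∑ s ∈ Finset.range D.n, f s * x s := fun f =>
    Finset.sum_congr rfl fun s hs => by rw [nth_map_range f (Finset.mem_range.1 hs)]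
  intro t ht
  simp only [allT, List.mem_cons, List.mem_append, List.mem_flatMap, List.mem_map, List.mem_filter, List.mem_range,
    decide_eq_true_eq] at ht
  rcases ht with rfl | ⟨t, ⟨h10, h11⟩, p, hp, rfl⟩ | ⟨_, ⟨c, hc, rfl⟩, rfl⟩
  · simpa [h9, T.lt] using hx.three
  · obtain ⟨g, rfl⟩ := hI t h10
    have h12 := hx.pw _ h10 h11 p (hps p hp)
    rw [← T.pow] at h12 ⊢
    simpa [h9, sub_mul, T.lt] using h12
  · rw [h9]
    simpa only [mul_assoc, mul_comm (x _)] using hx.int _ (Virt.comb hv c) fun t ht =>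
      of_decide_eq_true (allL_spec (allL_spec h5 c hc) t (List.mem_range.2 ht))

theorem no_of_chk2 [Finite G] {T : TD G D} (hm : T.Mass) (hI : Inh T) {rows : List (List ℤ)}
    (hv : ∀ r ∈ rows, Virt T (nth r)) {u e : ℕ} {ps : List ℕ} (hps : ∀ p ∈ ps, p.Prime) {L : List (List (ℤ × ℕ))}
    {o : List ℕ} (h : okS2 D u e ps rows L o = true) (x : ℕ → ℤ) (hx : RowOK T x)
    (hs : ∑ t ∈ Finset.range D.n, (D.cnt t : ℤ) * x t ^ 2 = D.N → Virt T fun t => x t ^ 2) : x u ≠ 2 ∧ x u ≠ -2 := by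
  simp only [okS2, frcT_eq, srch2_eq, frc_eq, Bool.and_eq_true, decide_eq_true_eq] at h
  obtain ⟨⟨⟨h1, h2, h3, h4, h0⟩, h5⟩, h6, h7⟩ := h
  obtain rfl : T.ty 1 = e := h1 _ (T.lt 1) (by rw [← T.ord, orderOf_one])
  have hP : (o.reverse ++ [u]).Perm (o ++ [u]) := (List.reverse_perm o).append_right _
  have h8 : ∀ f : ℕ → ℤ, dotL ((o.reverse ++ [u]).map f) (((o.reverse ++ [u]).map x).map fun v => v * v) =
      ∑ t ∈ Finset.range D.n, f t * x t ^ 2 := fun f => by
    rw [List.map_map, dotL_map, sum_supp (hP.nodup_iff.2 h3) (fun s hs => h4 s (hP.subset hs)) fun s hs hs' => by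
      rw [hx.sing s (h0 s hs fun h => hs' (hP.symm.subset h)), zero_pow two_ne_zero, mul_zero]]
    simp only [Function.comp, pow_two]
  have h9 : x u * x u = 4 → go2 D (allT D (T.ty 1) ps (L.map (comb rows))) (T.ty 1) (leaf D rows (o.reverse ++ [u])) o
      [u] [x u] (D.N - D.cnt u * 4) ≠ true := fun h10 h11 => by
    have h12 := go2_spec hx.pos.ne' h2 (tests_ok hI hv hps h5 hx) h3 h4 (by
      have h11 : ((o ++ [u]).map fun s => D.cnt s * ((x s).natAbs * (x s).natAbs)).sum ≤ D.N := by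
        rw [← List.sum_toFinset _ h3]
        refine (Finset.sum_le_sum_of_subset fun s hs => Finset.mem_range.2 (h4 s (List.mem_toFinset.1 hs))).trans ?_
        have h12 := hx.nrm
        simp only [pow_two, ← Int.natAbs_mul_self] at h12
        exact_mod_cast h12
      rw [List.map_append, List.sum_append, List.map_singleton, List.sum_singleton, ← Int.natAbs_mul (x u), h10] at h11
      exact Nat.le_sub_of_add_le h11) h11
    rw [leaf, Bool.and_eq_true, decide_eq_true_eq, h8] at h12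
    have h13 := hs h12.1
    rw [allL_of fun r hr => decide_eq_true (by
      rw [h8]
      simpa only [mul_assoc] using dvd_of_virt hm (hv r hr) h13)] at h12
    cases h12.2
  exact ⟨fun h10 => h9 (by rw [h10]; rfl) (h10 ▸ h6), fun h10 => h9 (by rw [h10]; rfl) (h10 ▸ h7)⟩

/-- **the number of the characters of odd degree of a triple cover over a faithful central character** -/
theorem kk_of_chk2 [Finite X] (hφ : Function.Surjective φ) (hk : φ.ker = center X) (h3 : Nat.card (center X) = 3)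
    (hp : _root_.commutator X = ⊤) {T : TD G D} (hm : T.Mass) (hr : Rat T) (hI : Inh T) {u a c : ℕ} (h1 : One T u)
    (ha : D.ord u = 2 ^ (a + 1)) (hc : D.cnt u * c = D.N) (h8 : c ≤ 8) {rows : List (List ℤ)}
    (hv : ∀ r ∈ rows, Virt T (nth r)) {e : ℕ} {ps : List ℕ} (hps : ∀ p ∈ ps, p.Prime) {L : List (List (ℤ × ℕ))}
    {o : List ℕ} (h : okS2 D u e ps rows L o = true) {l : X → ℂ} {m : center X →* ℂˣ} (hl : Fa (center X) l)
    (hlm : ∀ z : center X, l z = m z) : kk ⊤ (center X) l = c :=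
  haveI : Finite G := Finite.of_surjective φ hφ
  kk_of_row2 hφ hk h3 hp hm hr hI h1 ha hc h8 (no_of_chk2 hm hI hv hps h) hl hlm

end Cfsg.Agent.MK.S2
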