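import Cfsg.Agent.MK.S2.Loc
import Cfsg.Agent.MK.S5.J2G
import Cfsg.Agent.MK.S5.J3G
import Cfsg.Agent.S2040
import Cfsg.Agent.H305.SepJ3

/-!
# MK, the small rows of `J₂` and `J₃` (helper83)
-/

set_option autoImplicit false

namespace Cfsg.Agent.MK.S2

open Cfsg Cfsg.Spor Subgroup Cfsg.Agent.MK.T Cfsg.Agent.MK.S Cfsg.Agent.OddHalf.D8.JTwo.Sheet

/-- **the row of `J₂`** -/
theorem j2 : SmS J2 := by
  have := TAB.J2.finite
  have := S2040.simple_J2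
  obtain ⟨t, u, Q, v, ρ, D⟩ := KFacts.J2.Basic.exists_dat
  exact sm_of_model D.cardC D.M (KFacts.J2.SheetX.sheetX D) (.inr S5.J2Row.index_two) S5.J2Row.k0_J2
    fun _ => S5.J2Row.f0_out

theorem m0_j3 {K : Type} [Group K] (h : IsoJ3 K) (ih : IH (Nat.card K)) : M0 K := by
  have := H306.SD.J.finite_of h
  obtain ⟨z, Q, v, ρ, M, hc, -, hE⟩ := OddHalf.D8.RowJ3.sheet' K h
  exact m0_of_model hc M (of_sheetE hE) (S5.J3Row.k0_J3 h) ih

theorem sm_j3 {K : Type} [Group K] (h : IsoJ3 K) : SmS K := by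
  have := H306.SD.J.finite_of h
  have := H305.SepJ3.simple h
  obtain ⟨z, Q, v, ρ, M, hc, hi, hE⟩ := OddHalf.D8.RowJ3.sheet' K h
  exact sm_of_model hc M (of_sheetE hE) hi (S5.J3Row.k0_J3 h) fun _ => S5.J3Row.f0_out h

/-- **the row of `J₃`** -/
theorem j3 (F : Type) [Field F] [Fintype F] (ω : F) (hF : Fintype.card F = 4) (hω : ω ^ 2 + ω + 1 = 0) :
    SmS (J3 F ω) := sm_j3 ⟨F, _, _, ω, hF, hω, ⟨MulEquiv.refl _⟩⟩

end Cfsg.Agent.MK.S2
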