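import Cfsg.Agent.MK.S8.Sheet
import Cfsg.Agent.MK.S5.Mov
import Cfsg.Agent.GAL.Spor.Janko
import Cfsg.Agent.H456.LD.HN.Tab

/-!
# MK, small rows: the groups with an involution centraliser `2^{1+4}_- : A₅` (helper83)

* `k0_A5`, `f0_A5` : the characters of odd degree of `A₅`;
* `lg_of_model`, `m0_of_model`, `sm_of_model`.
-/

set_option autoImplicit false
set_option maxHeartbeats 400000

namespace Cfsg.Agent.MK.S2

open Cfsg Subgroup Equiv Cfsg.Agent.MK.T Cfsg.Agent.MK.S8 Cfsg.Agent.TAB.Use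

section five

open Cfsg.Agent.H456.LD.HN.Tab

theorem enum_A5 : ∃ χ : ℕ → A5 → ℂ, Enum A5 5 (fun j => [1, 4, 5, 3, 3].getD j 0) χ := by
  obtain ⟨a, b, c, h1, h2, ha, hb, hc, -⟩ := tab
  have h3 : ∀ j < 5, (([one', four, a, b, c].getD j one' : IrrCharacter A5) : A5 → ℂ) 1 =
      (([1, 4, 5, 3, 3].getD j 0 : ℕ) : ℂ) := fun j hj => by
    interval_cases j
    exacts [Nat.cast_one.symm, four_one, ha, hb, hc]
  refine ⟨fun j => ([one', four, a, b, c].getD j one' : IrrCharacter A5), fun j _ => Subtype.prop _,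
    fun i hi j hj h => ?_, fun ψ hψ => ?_, h3⟩
  · have h4 := (h3 i hi).symm.trans ((congrFun h 1).trans (h3 j hj))
    rw [Nat.cast_inj] at h4
    have h5 : ∀ i < 5, ∀ j < 5, [1, 4, 5, 3, 3].getD i 0 = [1, 4, 5, 3, 3].getD j 0 →
      i = j ∨ (i = 3 ∧ j = 4) ∨ (i = 4 ∧ j = 3) := by decide
    rcases h5 i hi j hj h4 with e | ⟨rfl, rfl⟩ | ⟨rfl, rfl⟩
    exacts [e, absurd (Subtype.ext h) h2, absurd (Subtype.ext h).symm h2]
  · rcases h1 ⟨ψ, hψ⟩ with e | e | e | e | e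
    exacts [⟨0, by norm_num, congrArg Subtype.val e⟩, ⟨1, by norm_num, congrArg Subtype.val e⟩,
      ⟨2, by norm_num, congrArg Subtype.val e⟩, ⟨3, by norm_num, congrArg Subtype.val e⟩,
      ⟨4, by norm_num, congrArg Subtype.val e⟩]

theorem k0_A5 : k0 A5 = 4 := by
  obtain ⟨χ, hE⟩ := enum_A5
  rw [k0_enum hE]
  decide

theorem cent_five : ∀ y : Perm (Fin 5), y * finRotate 5 = finRotate 5 * y ∨
    y * finRotate 5 ^ 2 = finRotate 5 ^ 2 * y → Perm.sign y = 1 := by decide +kernel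

theorem f0_A5 {β : MulAut A5} (hβ : β ∉ (MulAut.conj : A5 →* MulAut A5).range) : f0 β = 2 := by
  obtain ⟨χ, hE⟩ := enum_A5
  obtain ⟨s, rfl⟩ := (S2119.result 5 (by norm_num) (by norm_num)).2 β
  have h1 : ∀ j < 5, j ∉ [3, 4] → ∀ i < 5, [1, 4, 5, 3, 3].getD i 0 = [1, 4, 5, 3, 3].getD j 0 → i = j := by decide
  have h2 : ∀ j < 5, j ∉ [3, 4] → ∀ x, χ j (MulAut.conjNormal s x) = χ j x := fun j hj h => enum_fix hE _ hj (h1 j hj h)
  have h3 := fun i => S5.moved_of_count hE (MulAut.conjNormal s) _ h2 (L := [z5, z5 ^ 2]) (i := i)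
    (List.pairwise_pair.2 fun h => by
      obtain ⟨g, hg⟩ := isConj_iff.1 h
      exact z5_not_conj g hg)
    (fun a ha h => by
      obtain ⟨g, hg⟩ := isConj_iff.1 h
      have h4 : (g : Perm (Fin 5)) * s * a = a * (g * s) := by
        have h6 : (g : Perm (Fin 5)) * (s * a * s⁻¹) * (g : Perm (Fin 5))⁻¹ = a := congrArg Subtype.val hg
        rw [← mul_inv_eq_iff_eq_mul]
        exact Eq.trans (by group) h6
      have h5 : Perm.sign ((g : Perm (Fin 5)) * s) = 1 := cent_five _ (by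
        rcases List.mem_pair.1 ha with rfl | rfl
        exacts [.inl h4, .inr h4])
      rw [map_mul, Perm.mem_alternatingGroup.1 g.2, one_mul] at h5
      exact hβ ⟨⟨s, Perm.mem_alternatingGroup.2 h5⟩, MulEquiv.ext fun x => Subtype.ext rfl⟩) le_rfl
  rw [f0_enum hE (q := fun j => decide (j ∉ [3, 4])) fun j hj _ =>
    ⟨fun h => decide_eq_true fun e => h3 j e h, fun h => h2 j hj (of_decide_eq_true h)⟩]
  decide

end five

open Cfsg.Agent.J2Type.Model Cfsg.Agent.J3Type.OneClass Cfsg.Agent.KFacts Cfsg.Agent.H72.ModelFacts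
open Cfsg.Agent.OddHalf.D8.JTwo.Sheet Cfsg.Agent.ODD.Alt Cfsg.Agent.GAL.Spor

theorem fix_four : ∀ s s' : Fin 5 → ZMod 2, (∀ i, s ((t5 : Perm (Fin 5)) i) = s i) →
    (∀ i, s ((u5 : Perm (Fin 5)) i) = s i) → ∑ i, s i = 0 → (∀ i, s' ((t5 : Perm (Fin 5)) i) = s' i) →
    (∀ i, s' ((u5 : Perm (Fin 5)) i) = s' i) → ∑ i, s' i = 0 → (∀ i, s i = 0) ∨ (∀ i, s' i = 0) ∨ ∀ i, s i = s' i := by
  decide +kernel

variable {S : Type} [Group S] [Finite S] {z : S} {Q : Subgroup (centralizer ({z} : Set S))}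
  {v : Fin 5 → centralizer ({z} : Set S)} {ρ : centralizer ({z} : Set S) →* SP}

theorem lg_of_model (hc : Nat.card (centralizer ({z} : Set S)) = 1920) (M : IsModel Q (zc z) v ρ)
    (h : SheetX z (centralizer ({z} : Set S)) (Q.map (centralizer ({z} : Set S)).subtype)) :
    Lg (Q.map (centralizer ({z} : Set S)).subtype) z (proj M) := by
  have := two_prime
  have hk : ∀ x, proj M x = 1 ↔ (x : S) ∈ Q.map (centralizer ({z} : Set S)).subtype := fun x => by
    rw [← MonoidHom.mem_ker, proj_ker, J3Sheet.coe_mem_iff]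
  refine ⟨J3Sheet.large hc M, ?_, ?_, proj_surj M, hk⟩
  · obtain ⟨a, ha, b, hb, h1⟩ := h.Rna
    exact ⟨a, ha, fun e => h1 (by rw [e, one_mul, mul_one]), fun e => h1 (by rw [e, h.cen b (h.RP hb)])⟩
  · obtain ⟨P, -, hP, -⟩ := h.syl
    have h1 : IsPGroup 2 (proj M).ker := by
      rw [proj_ker]
      exact IsPGroup.of_card (n := 5) (card_Q M)
    refine syl_of (D := ((Q5 : Subgroup A5).comap (proj M)).map (centralizer ({z} : Set S)).subtype)
      (fun e => P.not_dvd_index (e.trans (index_dvd_of_le fun x hx => mem_centralizer_singleton_iff.2 (hP x hx))))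
      ((Q5.isPGroup'.comap_of_ker_isPGroup _ h1).map _) (map_subtype_le _) ?_
    have key : ∀ x ∈ Q, Fx (((Q5 : Subgroup A5).comap (proj M)).map (centralizer ({z} : Set S)).subtype) z x →
        ∀ σ ∈ (Q5 : Subgroup A5), ∀ i, (ρ x).s ((σ : Perm (Fin 5)) i) = (ρ x).s i := fun x hx h2 σ hσ i => by
      obtain ⟨c, rfl⟩ := proj_surj M σ
      have h3 : ρ (c * x * c⁻¹) = ρ x := J3Sheet.eqz_rho M (h2 c ⟨c, hσ, rfl⟩)
      rw [map_mul, map_mul, map_inv, mul_inv_eq_iff_eq_mul] at h3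
      have h4 := congrFun (congrArg SP.s h3) i
      rw [mul_s, mul_s, (M.mem_Q x).1 hx, Perm.one_apply, add_comm, add_right_inj] at h4
      exact h4.symm
    have ht : t5 ∈ (Q5 : Subgroup A5) := mem_Q5.2 rfl
    have hu : u5 ∈ (Q5 : Subgroup A5) := mem_Q5.2 (by decide +kernel)
    have h2 : ∀ x ∈ Q, (∀ i, (ρ x).s i = 0) → (x : S) = 1 ∨ (x : S) = z := fun x hx h3 =>
      ((M.ker x).1 (SP.ext ((M.mem_Q x).1 hx) (funext h3))).imp (congrArg Subtype.val) (congrArg Subtype.val)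
    rintro _ ⟨x, hx, rfl⟩ _ ⟨y, hy, rfl⟩ h3 h4
    exact (fix_four _ _ (key x hx h3 _ ht) (key x hx h3 _ hu) ((M.range _).1 ⟨x, rfl⟩).2 (key y hy h4 _ ht)
      (key y hy h4 _ hu) ((M.range _).1 ⟨y, rfl⟩).2).imp (h2 x hx) (Or.imp (h2 y hy) fun e => J3Sheet.eqz_of_rho M
        (SP.ext (((M.mem_Q x).1 hx).trans ((M.mem_Q y).1 hy).symm) (funext e)))

/-- **the McKay equality** -/
theorem m0_of_model (hc : Nat.card (centralizer ({z} : Set S)) = 1920) (M : IsModel Q (zc z) v ρ)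
    (h : SheetX z (centralizer ({z} : Set S)) (Q.map (centralizer ({z} : Set S)).subtype)) (hk : k0 S = 8)
    (ih : IH (Nat.card S)) : M0 S :=
  (lg_of_model hc M h).m0 ih (hk.trans (congrArg (2 * ·) k0_A5).symm)

/-- **the row** -/
theorem sm_of_model [IsSimpleGroup S] (hc : Nat.card (centralizer ({z} : Set S)) = 1920) (M : IsModel Q (zc z) v ρ)
    (h : SheetX z (centralizer ({z} : Set S)) (Q.map (centralizer ({z} : Set S)).subtype))
    (hi : (MulAut.conj : S →* MulAut S).range.index = 1 ∨ (MulAut.conj : S →* MulAut S).range.index = 2)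
    (hk : k0 S = 8) (hf : ∀ α : MulAut S, α ∉ (MulAut.conj : S →* MulAut S).range → f0 α = 4) : MK.S.SmS S :=
  (lg_of_model hc M h).sm_two (au_of_sheet h hi) hi (hk.trans (congrArg (2 * ·) k0_A5).symm)
    fun α _ hα hβ _ => (hf α hα).trans (congrArg (2 * ·) (f0_A5 hβ)).symm

end Cfsg.Agent.MK.S2
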